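import Cfsg.Agent.Lib.Concrete.M23Ext.Sem
import Cfsg.Agent.Lib.Solv.GaschutzAbelian

/-!
Certificates for the splitting of extensions of M23 by elementary abelian groups of order 2^11.
-/

set_option autoImplicit false

namespace Cfsg.Lib.Concrete.M23Ext

open Finset

/-- A Sylow 2-subgroup of M23 by a polycyclic sequence, and elements conjugating subgroups of it. -/
structure SylData where
  A : List (ℕ × ℕ)
  G : List (ℕ × ℕ)
  rel : List (List ℕ)
  hl : List (ℕ × ℕ × ℕ)
  rels : List (ℕ × List ℕ × List ℕ)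

/-- The certificate for a module. -/
structure Cert where
  R : List (List ℕ)
  GR : List (List ℕ)
  tri : List (ℕ × ℕ × ℕ)
  use : List ℕ
  eqs : List ℕ
  phi : ℕ
  T : List Vec
  masks : List ℕ

/-- All pairs of generators. -/
def pairs : List (ℕ × ℕ) := (List.range 7).flatMap fun i => (List.range' i (7 - i)).map fun j => (i, j)

theorem mem_pairs {i j : ℕ} (hij : i ≤ j) (hj : j < 7) : (i, j) ∈ pairs := by
  refine List.mem_flatMap.2 ⟨i, List.mem_range.2 (by omega), List.mem_map.2 ⟨j, ?_, rfl⟩⟩
  rw [List.mem_range'_1]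
  omega

theorem pairIdx_spec : pairs.map (fun q => pairIdx q.1 q.2) = List.range 28 := by decide +kernel

theorem mem_pairs_iff : ∀ q ∈ pairs, q.1 ≤ q.2 ∧ q.2 < 7 ∧ pairIdx q.1 q.2 < 28 := by decide +kernel

/-- The right hand side of a relation, as a word. -/
def rhsWord (D : SylData) (i j : ℕ) : List ℕ :=
  bif Nat.beq i j then D.rel.getD (pairIdx i j) [] else i :: D.rel.getD (pairIdx i j) []

/-- The packed generators. -/
def SylData.imgs (D : SylData) : List ℕ := D.A.map Prod.fst

/-- The checks on the group data. -/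
def sylCheck (D : SylData) : Bool :=
  Nat.beq D.A.length 7 && D.A.all (fun a => elemCheck 1 16777215 a.1 a.2) &&
  D.G.all (fun a => elemCheck 1 16777215 a.1 a.2) &&
  D.rel.all (fun w => w.all fun i => Nat.blt i 7) &&
  pairs.all (fun q => wEq D.imgs [q.2, q.1] (rhsWord D q.1 q.2)) &&
  D.hl.all (fun h => Nat.blt h.1 D.G.length && Nat.blt h.2.1 128 && Nat.blt h.2.2 128 &&
    wEq (D.imgs ++ [(D.G.getD h.1 (0, 0)).1, (D.G.getD h.1 (0, 0)).2]) ([7] ++ bitsL h.2.1 ++ [8]) (bitsL h.2.2)) &&
  D.rels.all fun r => Nat.blt r.1 D.G.length &&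
    (r.2.1 ++ r.2.2).all fun l => Nat.blt l D.hl.length && Nat.beq (D.hl.getD l (0, 0, 0)).1 r.1

/-- The normal forms are distinct. -/
def nfCheck (D : SylData) : Bool :=
  let L := (List.range 128).map fun e => packW D.imgs (bitsL e)
  decide L.Nodup

/-- The unknowns of the relations. -/
def Vz (n : ℕ) : Vec := vunit (11 * n)

/-- The states of the conjugated elements. -/
def srcStates (D : SylData) : List State := D.hl.map fun h => (vzero, h.2.1)

/-- The states of their images. -/
def tgtStates (D : SylData) : List State :=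
  (List.range D.hl.length).map fun l => (vunit (308 + 11 * l), (D.hl.getD l (0, 0, 0)).2.2)

/-- The generator states. -/
def genStates : List State := (List.range 7).map fun i => (vzero, 2 ^ i)

/-- The equations of associativity. -/
def assocEqs (D : SylData) (c : Cert) : List (Option Vec) :=
  c.tri.map fun t =>
    let B : ℕ → State := fun i => genStates.getD i (vzero, 0)
    sdiff ((smul c.R D.rel Vz (B t.1) (B t.2.1)).bind fun a => smul c.R D.rel Vz a (B t.2.2))
      ((smul c.R D.rel Vz (B t.2.1) (B t.2.2)).bind fun a => smul c.R D.rel Vz (B t.1) a)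

/-- The equations of conjugation. -/
def conjEqs (D : SylData) (c : Cert) : List (Option Vec) :=
  (c.use.map fun u => D.rels.getD u (0, [], [])).map fun r =>
    (sdiff (sword c.R D.rel Vz (srcStates D) r.2.1) (sword c.R D.rel Vz (srcStates D) r.2.2)).bind fun d =>
      (sdiff (sword c.R D.rel Vz (tgtStates D) r.2.1) (sword c.R D.rel Vz (tgtStates D) r.2.2)).map fun d' =>
        vadd (actV (c.GR.getD r.1 []) d) d'

/-- The equations are the listed ones. -/
def eqsCheck (D : SylData) (c : Cert) : Bool :=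
  let L := assocEqs D c ++ conjEqs D c
  c.tri.all (fun t => Nat.blt t.1 7 && Nat.blt t.2.1 7 && Nat.blt t.2.2 7) &&
  c.use.all (fun u => Nat.blt u D.rels.length) && L.all Option.isSome && decide ((L.map fun o => o.getD []).flatten = c.eqs)

/-- The states of the corrected lifts. -/
def newStates (c : Cert) : List State := (List.range 7).map fun i => (c.T.getD i vzero, 2 ^ i)

/-- The corrected lifts satisfy the relations, given the equations. -/
def splitCheck (D : SylData) (c : Cert) : Bool :=
  c.T.all (fun v => Nat.beq v.length 11) &&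
  pairs.all fun q =>
    match sdiff (sword c.R D.rel Vz (newStates c) [q.2, q.1])
        (sword c.R D.rel Vz (newStates c) (rhsWord D q.1 q.2)) with
    | some d => (List.range 11).all fun k =>
        Nat.beq (d.getD k 0) (rowXor (c.masks.getD (11 * pairIdx q.1 q.2 + k) 0) (c.eqs ++ [c.phi]) 0)
    | none => false

/-- The states of lifts changed by unknowns. -/
def freeStates : List State := (List.range 7).map fun i => (vunit (11 * i), 2 ^ i)

/-- The value of `phi` does not depend on the lifts. -/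
def phiCheck (D : SylData) (c : Cert) : Bool :=
  let L := pairs.map fun q =>
    sdiff (sword c.R D.rel (fun _ => vzero) freeStates [q.2, q.1])
      (sword c.R D.rel (fun _ => vzero) freeStates (rhsWord D q.1 q.2))
  L.all Option.isSome && Nat.beq (rowXor c.phi (L.map fun o => o.getD []).flatten 0) 0

/-- The rows are those of the module. -/
def rowsCheck (rows : ℕ → ℕ → List ℕ) (D : SylData) (c : Cert) : Bool :=
  decide (c.R = D.A.map (fun a => rows a.1 a.2)) && decide (c.GR = D.G.map (fun a => rows a.1 a.2)) &&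
  decide (c.phi < 2 ^ 308)

variable {E : Type*} [Group E] {rows : ℕ → ℕ → List ℕ} {X : Ext E rows} {D : SylData} {c : Cert}

/-- Lifts of the Sylow generators with relation values. -/
structure Rels (X : Ext E rows) (D : SylData) (b : ℕ → E) (Z : ℕ → Fin 11 → ZMod 2) : Prop where
  rep : ∀ i < 7, Rep (X.π (b i)) (D.imgs.getD i 0)
  eq : ∀ i j, i ≤ j → j < 7 → b j * b i = X.ι (Z (pairIdx i j)) * wordProd b (rhsWord D i j)

/-- The relation values as a sequence. -/
def zOf (Z : ℕ → Fin 11 → ZMod 2) (k : ℕ) : ZMod 2 := Z (k / 11) ⟨k % 11, Nat.mod_lt _ (by norm_num)⟩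

/-- The value of `phi`. -/
def phiVal (c : Cert) (Z : ℕ → Fin 11 → ZMod 2) : ZMod 2 := feval 308 (zOf Z) c.phi

theorem sylCheck_imgs (h : sylCheck D = true) {i : ℕ} (hi : i < 7) :
    D.imgs.getD i 0 = (D.A.getD i (0, 0)).1 ∧ elemCheck 1 16777215 (D.A.getD i (0, 0)).1 (D.A.getD i (0, 0)).2 = true := by
  simp only [sylCheck, Bool.and_eq_true, Nat.beq_eq, List.all_eq_true] at h
  obtain ⟨⟨⟨⟨⟨⟨hl, hA⟩, -⟩, -⟩, -⟩, -⟩, -⟩ := h
  have hi' : i < D.A.length := by omega
  simp only [SylData.imgs, List.getD_eq_getElem?_getD, List.getElem?_map,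
    List.getElem?_eq_getElem hi', Option.map_some, Option.getD_some, true_and]
  exact hA _ (List.getElem_mem hi')

theorem elem_mem_M23 {p q : ℕ} (h : elemCheck 1 16777215 p q = true) :
    ∃ g ∈ Spor.M23, Rep g p ∧ Rep g⁻¹ q := by
  obtain ⟨g, hg, h1, h2⟩ := exists_of_elemCheck (by norm_num) h
  refine ⟨g, ?_, h1, h2⟩
  rw [← fixB_one_eq]
  exact hg.1

theorem Ext.exists_lift (X : Ext E rows) {g : Equiv.Perm GolayPt} (hg : g ∈ Spor.M23) : ∃ b, X.π b = g := by
  rw [← X.range_π] at hg
  exact hg

theorem exists_lifts (hs : sylCheck D = true) : ∃ b : ℕ → E, ∀ i < 7, Rep (X.π (b i)) (D.imgs.getD i 0) := by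
  have : ∀ i, ∃ b : E, i < 7 → Rep (X.π b) (D.imgs.getD i 0) := fun i => by
    by_cases hi : i < 7
    · obtain ⟨e1, e2⟩ := sylCheck_imgs hs hi
      obtain ⟨g, hg, hr, -⟩ := elem_mem_M23 e2
      obtain ⟨b, rfl⟩ := X.exists_lift hg
      exact ⟨b, fun _ => e1 ▸ hr⟩
    · exact ⟨1, fun h => absurd h hi⟩
  choose b hb using this
  exact ⟨b, fun i hi => hb i hi⟩

theorem rhsWord_lt (hs : sylCheck D = true) {i j : ℕ} (hi : i < 7) : ∀ k ∈ rhsWord D i j, k < 7 := by
  have hrel : ∀ k ∈ D.rel.getD (pairIdx i j) [], k < 7 := by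
    intro k hk
    simp only [sylCheck, Bool.and_eq_true, List.all_eq_true, Nat.blt_eq] at hs
    obtain ⟨⟨⟨⟨-, hr⟩, -⟩, -⟩, -⟩ := hs
    rcases Nat.lt_or_ge (pairIdx i j) D.rel.length with h | h
    · rw [List.getD_eq_getElem D.rel [] h] at hk
      exact hr _ (List.getElem_mem h) k hk
    · rw [List.getD_eq_default D.rel [] h] at hk
      simp at hk
  intro k hk
  rw [rhsWord] at hk
  cases hb : Nat.beq i j <;> simp only [hb, cond_true, cond_false] at hk
  · rcases List.mem_cons.1 hk with rfl | hk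
    exacts [hi, hrel k hk]
  · exact hrel k hk

theorem exists_rels (hs : sylCheck D = true) {b : ℕ → E} (hb : ∀ i < 7, Rep (X.π (b i)) (D.imgs.getD i 0)) :
    ∃ Z, Rels X D b Z := by
  have hw : ∀ q ∈ pairs, wEq D.imgs [q.2, q.1] (rhsWord D q.1 q.2) = true := by
    simp only [sylCheck, Bool.and_eq_true, List.all_eq_true] at hs
    obtain ⟨⟨⟨-, h⟩, -⟩, -⟩ := hs
    exact h
  have key : ∀ n, ∃ u : Fin 11 → ZMod 2, ∀ i j, i ≤ j → j < 7 → pairIdx i j = n →
      b j * b i = X.ι u * wordProd b (rhsWord D i j) := by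
    intro n
    by_cases h : ∃ q ∈ pairs, pairIdx q.1 q.2 = n
    · obtain ⟨⟨i, j⟩, hq, hn⟩ := h
      obtain ⟨hij, hj, -⟩ := mem_pairs_iff _ hq
      have hi : i < 7 := lt_of_le_of_lt hij hj
      have hword := (wEq_iff (gs := fun a => X.π (b a)) (fun a ha => hb a (by
        rcases List.mem_append.1 ha with ha | ha
        · simp only [List.mem_cons, List.not_mem_nil, or_false] at ha
          rcases ha with rfl | rfl
          exacts [hj, hi]
        · exact rhsWord_lt hs hi a ha))).1 (hw _ hq)
      rw [← map_wordProd, ← map_wordProd] at hword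
      obtain ⟨u, hu⟩ := X.exists_ι hword
      refine ⟨u, fun i' j' h1 h2 h3 => ?_⟩
      have hinj : ∀ q ∈ pairs, ∀ q' ∈ pairs, pairIdx q.1 q.2 = pairIdx q'.1 q'.2 → q = q' := by decide +kernel
      have := hinj _ (mem_pairs h1 h2) _ hq (h3.trans hn.symm)
      simp only [Prod.mk.injEq] at this
      obtain ⟨rfl, rfl⟩ := this
      rw [hu]
      simp [wordProd]
    · exact ⟨0, fun i j h1 h2 h3 => absurd ⟨(i, j), mem_pairs h1 h2, h3⟩ h⟩
  choose Z hZ using key
  exact ⟨Z, hb, fun i j h1 h2 => hZ _ i j h1 h2 rfl⟩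

theorem act_of_rep (hs : sylCheck D = true) (hr : rowsCheck rows D c = true) {b : ℕ → E}
    (hb : ∀ i < 7, Rep (X.π (b i)) (D.imgs.getD i 0)) :
    ∀ i < 7, ∀ u, b i * X.ι u * (b i)⁻¹ = X.ι (actFn (c.R.getD i []) u) := by
  intro i hi u
  obtain ⟨e1, e2⟩ := sylCheck_imgs hs hi
  obtain ⟨g, -, hg1, hg2⟩ := elem_mem_M23 e2
  have hπ : X.π (b i) = g := (e1 ▸ hb i hi).ext hg1
  simp only [rowsCheck, Bool.and_eq_true, decide_eq_true_eq] at hr
  have hl : i < D.A.length := by
    simp only [sylCheck, Bool.and_eq_true, Nat.beq_eq] at hs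
    omega
  rw [hr.1.1, List.getD_eq_getElem?_getD, List.getElem?_map, List.getElem?_eq_getElem hl]
  rw [List.getD_eq_getElem D.A _ hl] at hg1 hg2
  exact X.conj (b i) _ _ (hπ ▸ hg1) (hπ ▸ hg2) u

theorem lifts_of_rels (hs : sylCheck D = true) (hr : rowsCheck rows D c = true) {b : ℕ → E}
    {Z : ℕ → Fin 11 → ZMod 2} (hR : Rels X D b Z) {V : ℕ → Vec} {K : ℕ} {z : ℕ → ZMod 2}
    (hlen : ∀ n < 28, (V n).length = 11) (hV : ∀ n < 28, veval K z (V n) = Z n) :
    Lifts X c.R D.rel V b K z where
  act := act_of_rep hs hr hR.rep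
  relLt n i hi := by
    simp only [sylCheck, Bool.and_eq_true, List.all_eq_true, Nat.blt_eq] at hs
    obtain ⟨⟨⟨⟨-, hrel⟩, -⟩, -⟩, -⟩ := hs
    rcases Nat.lt_or_ge n D.rel.length with h | h
    · rw [List.getD_eq_getElem D.rel [] h] at hi
      exact hrel _ (List.getElem_mem h) i hi
    · rw [List.getD_eq_default D.rel [] h] at hi
      simp at hi
  lenV := hlen
  sq i hi := by
    rw [hR.eq i i le_rfl hi, hV _ (mem_pairs_iff _ (mem_pairs le_rfl hi)).2.2, rhsWord,
      show Nat.beq i i = true by rw [Nat.beq_eq], cond_true]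
  comm i j hij hj := by
    rw [hR.eq i j hij.le hj, hV _ (mem_pairs_iff _ (mem_pairs hij.le hj)).2.2, rhsWord,
      show Nat.beq i j = false from nbeq_false hij.ne, cond_false]
    simp [wordProd]

theorem getD_genLike {f : ℕ → State} {i : ℕ} (hi : i < 7) :
    ((List.range 7).map f).getD i (vzero, 0) = f i := by
  rw [List.getD_eq_getElem?_getD, List.getElem?_map, List.getElem?_range hi]
  rfl

theorem bprod_two_pow (b : ℕ → E) {i : ℕ} (hi : i < 7) : bprod b (2 ^ i) = b i := by
  have : ∀ i < 7, bitsL (2 ^ i) = [i] := by decide +kernel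
  rw [bprod, this i hi]
  simp [wordProd]

theorem pow_lt : ∀ i < 7, (2 : ℕ) ^ i < 128 := by decide

/-- The change of lifts by module elements. -/
def shiftLifts (X : Ext E rows) (b : ℕ → E) (t : ℕ → Fin 11 → ZMod 2) (i : ℕ) : E := X.ι (t i) * b i

theorem rep_shift {b : ℕ → E} (t : ℕ → Fin 11 → ZMod 2) (hb : ∀ i < 7, Rep (X.π (b i)) (D.imgs.getD i 0)) :
    ∀ i < 7, Rep (X.π (shiftLifts X b t i)) (D.imgs.getD i 0) := fun i hi => by
  rw [shiftLifts, map_mul, X.π_ι, one_mul]; exact hb i hi

theorem sval_shift {b : ℕ → E} {K : ℕ} {z : ℕ → ZMod 2} {Tv : ℕ → Vec} {t : ℕ → Fin 11 → ZMod 2}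
    (ht : ∀ i < 7, veval K z (Tv i) = t i) :
    ∀ l < ((List.range 7).map fun i => ((Tv i, 2 ^ i) : State)).length,
      (((List.range 7).map fun i => ((Tv i, 2 ^ i) : State)).getD l (vzero, 0)).2 < 128 ∧
      sval X b K z (((List.range 7).map fun i => ((Tv i, 2 ^ i) : State)).getD l (vzero, 0)) = shiftLifts X b t l := by
  intro l hl
  simp only [List.length_map, List.length_range] at hl
  rw [getD_genLike hl]
  exact ⟨pow_lt l hl, by rw [sval, bprod_two_pow b hl, ht l hl, shiftLifts]⟩

/-- The relation value of changed lifts is the difference of the two products. -/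
theorem shift_rel (hs : sylCheck D = true) {b : ℕ → E} {V : ℕ → Vec} {K : ℕ} {z : ℕ → ZMod 2}
    (L : Lifts X c.R D.rel V b K z) {Tv : ℕ → Vec} {t : ℕ → Fin 11 → ZMod 2}
    (ht : ∀ i < 7, veval K z (Tv i) = t i) {i j : ℕ} (hij : i ≤ j) (hj : j < 7) {d : Vec}
    (hd : sdiff (sword c.R D.rel V ((List.range 7).map fun i => (Tv i, 2 ^ i)) [j, i])
      (sword c.R D.rel V ((List.range 7).map fun i => (Tv i, 2 ^ i)) (rhsWord D i j)) = some d) :
    shiftLifts X b t j * shiftLifts X b t i =
      X.ι (veval K z d) * wordProd (shiftLifts X b t) (rhsWord D i j) := by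
  obtain ⟨a', c', ha, hc, he⟩ := sdiff_sound (X := X) (b := b) (K := K) (z := z) hd
  have hlen : ((List.range 7).map fun i => ((Tv i, 2 ^ i) : State)).length = 7 := by simp
  obtain ⟨-, -, h1⟩ := sword_sound L (sval_shift ht) [j, i] a' (fun l hl => by
    rw [hlen]
    simp only [List.mem_cons, List.not_mem_nil, or_false] at hl
    rcases hl with rfl | rfl <;> omega) ha
  obtain ⟨-, -, h2⟩ := sword_sound L (sval_shift ht) (rhsWord D i j) c' (fun l hl => by
    rw [hlen]; exact rhsWord_lt hs (by omega) l hl) hc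
  rw [← h1, ← h2] at he
  simpa [wordProd] using he

/-- `phi` is the same for all lifts when some lifts satisfy the relations exactly. -/
theorem phi_zero_of_exact (hs : sylCheck D = true) (hr : rowsCheck rows D c = true) (hp : phiCheck D c = true)
    {b₀ : ℕ → E} (h₀ : Rels X D b₀ 0) {b : ℕ → E} {Z : ℕ → Fin 11 → ZMod 2} (hR : Rels X D b Z) :
    phiVal c Z = 0 := by
  have ht : ∀ i, ∃ u : Fin 11 → ZMod 2, i < 7 → X.ι u * b₀ i = b i := fun i => by
    by_cases hi : i < 7
    · obtain ⟨u, hu⟩ := X.exists_ι ((hR.rep i hi).ext (h₀.rep i hi))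
      exact ⟨u, fun _ => hu⟩
    · exact ⟨0, fun h => absurd h hi⟩
  choose t ht using ht
  let z : ℕ → ZMod 2 := fun k => t (k / 11) ⟨k % 11, Nat.mod_lt _ (by norm_num)⟩
  have L : Lifts X c.R D.rel (fun _ => vzero) b₀ 77 z :=
    lifts_of_rels hs hr h₀ (fun _ _ => length_vzero) fun n _ => veval_vzero _ _
  have htv : ∀ i < 7, veval 77 z (vunit (11 * i)) = t i := fun i hi => by
    rw [veval_vunit _ _ (by omega)]
    funext k
    show t ((11 * i + k.val) / 11) _ = t i k
    have e1 : (11 * i + k.val) / 11 = i := by omega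
    have e2 : (11 * i + k.val) % 11 = k.val := by omega
    simp only [e1, e2]
  simp only [phiCheck, Bool.and_eq_true, Nat.beq_eq] at hp
  obtain ⟨hsome, hphi⟩ := hp
  set L' := pairs.map fun q => sdiff (sword c.R D.rel (fun _ => vzero) freeStates [q.2, q.1])
    (sword c.R D.rel (fun _ => vzero) freeStates (rhsWord D q.1 q.2)) with hL'
  have hval : ∀ q ∈ pairs, ∃ d, sdiff (sword c.R D.rel (fun _ => vzero) freeStates [q.2, q.1])
      (sword c.R D.rel (fun _ => vzero) freeStates (rhsWord D q.1 q.2)) = some d ∧ d.length = 11 ∧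
      veval 77 z d = Z (pairIdx q.1 q.2) := by
    rintro ⟨i, j⟩ hq
    obtain ⟨hij, hj, -⟩ := mem_pairs_iff _ hq
    obtain ⟨d, hd⟩ := Option.isSome_iff_exists.1 (List.all_eq_true.1 hsome _ (List.mem_map.2 ⟨(i, j), hq, rfl⟩))
    refine ⟨d, hd, ?_, ?_⟩
    · obtain ⟨a', c', -, -, -⟩ := sdiff_sound (X := X) (b := b₀) (K := 77) (z := z) hd
      revert hd
      generalize sword c.R D.rel (fun _ => vzero) freeStates [j, i] = o1
      generalize sword c.R D.rel (fun _ => vzero) freeStates (rhsWord D i j) = o2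
      intro hd
      cases o1 with
      | none => simp [sdiff] at hd
      | some x =>
        cases o2 with
        | none => simp [sdiff] at hd
        | some y =>
          simp only [sdiff] at hd
          cases hb : Nat.beq x.2 y.2 <;> simp only [hb, cond_true, cond_false, Option.some.injEq, reduceCtorEq] at hd
          subst hd
          exact length_vadd _ _
    · have h1 := shift_rel hs L htv hij hj hd
      have hb : ∀ k < 7, shiftLifts X b₀ t k = b k := fun k hk => ht k hk
      rw [hb i (by omega), hb j hj, wordProd_congr fun k hk => hb k (rhsWord_lt hs (by omega) k hk),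
        hR.eq i j hij hj] at h1
      exact (X.ι_mul_cancel h1).symm
  have h77 : feval 77 z (rowXor c.phi (L'.map fun o => o.getD []).flatten 0) = 0 := by rw [hphi, feval_zero]
  rw [← h77, feval_rowXor]
  have hflat : ∀ (l : List (ℕ × ℕ)), (∀ q ∈ l, q ∈ pairs) →
      (((l.map fun q => sdiff (sword c.R D.rel (fun _ => vzero) freeStates [q.2, q.1])
        (sword c.R D.rel (fun _ => vzero) freeStates (rhsWord D q.1 q.2))).map fun o => o.getD []).flatten).map
          (feval 77 z) = (l.map fun q => (List.range 11).map fun k => zOf Z (11 * pairIdx q.1 q.2 + k)).flatten := by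
    intro l
    induction l with
    | nil => intro _; rfl
    | cons q l ih =>
      intro hl
      obtain ⟨d, hd, hdl, hdv⟩ := hval q (hl q (List.mem_cons_self ..))
      simp only [List.map_cons, List.flatten_cons, List.map_append, ih fun q' hq' => hl q' (List.mem_cons_of_mem _ hq'), hd,
        Option.getD_some]
      refine congrArg₂ (· ++ ·) ?_ rfl
      apply List.ext_getElem
      · simp [hdl]
      intro k hk1 hk2
      simp only [List.length_map, hdl] at hk1
      simp only [List.getElem_map, List.getElem_range]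
      have := congrFun hdv ⟨k, hk1⟩
      simp only [veval] at this
      rw [List.getD_eq_getElem d 0 (by omega)] at this
      rw [this, zOf]
      have e1 : (11 * pairIdx q.1 q.2 + k) / 11 = pairIdx q.1 q.2 := by omega
      have e2 : (11 * pairIdx q.1 q.2 + k) % 11 = k := by omega
      simp only [e1, e2]
  have hm := hflat pairs fun q hq => hq
  have hrange : (pairs.map fun q => (List.range 11).map fun k => zOf Z (11 * pairIdx q.1 q.2 + k)).flatten =
      (List.range 308).map (zOf Z) := by
    have e : ((List.range 28).map fun n => (List.range 11).map fun k => 11 * n + k).flatten = List.range 308 := by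
      decide +kernel
    rw [← e, List.map_flatten, List.map_map, ← pairIdx_spec, List.map_map]
    simp only [Function.comp_def, List.map_map]
  rw [hrange] at hm
  rw [← hL'] at hm
  have hlen := congrArg List.length hm
  simp only [List.length_map, List.length_range] at hlen
  rw [hlen, phiVal, feval]
  refine sum_congr rfl fun k hk => ?_
  have hk' := mem_range.1 hk
  rw [Nat.zero_add]
  refine ite_congr rfl (fun _ => ?_) (fun _ => rfl)
  have := congrArg (fun l => l.getD k 0) hm
  simp only [List.getD_eq_getElem?_getD, List.getElem?_map, List.getElem?_range hk', Option.map_some,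
    Option.getD_some] at this
  rw [← this, List.getD_eq_getElem?_getD]
  have hk2 : k < ((L'.map fun o => o.getD []).flatten).length := by omega
  simp [List.getElem?_eq_getElem hk2]

theorem feval_phi (hr : rowsCheck rows D c = true) (z : ℕ → ZMod 2) {K : ℕ} (hK : 308 ≤ K) :
    feval K z c.phi = feval 308 z c.phi := by
  simp only [rowsCheck, Bool.and_eq_true, decide_eq_true_eq] at hr
  refine (sum_subset (range_subset_range.2 hK) fun k _ hk => ?_).symm
  rw [mem_range, not_lt] at hk
  rw [if_neg]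
  rw [Nat.testBit_lt_two_pow (lt_of_lt_of_le hr.2 (Nat.pow_le_pow_right (by norm_num) hk))]
  simp

/-- If `phi` vanishes, some lifts satisfy the relations exactly. -/
theorem exists_exact (hs : sylCheck D = true) (hr : rowsCheck rows D c = true) (he : eqsCheck D c = true)
    (hsp : splitCheck D c = true) {b : ℕ → E} {Z : ℕ → Fin 11 → ZMod 2} (hR : Rels X D b Z)
    (hphi : phiVal c Z = 0) : ∃ b' : ℕ → E, Rels X D b' 0 := by
  have hs' := hs
  simp only [sylCheck, Bool.and_eq_true, List.all_eq_true, Nat.blt_eq, Nat.beq_eq] at hs'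
  obtain ⟨⟨⟨-, -⟩, hhl⟩, hrels⟩ := hs'
  have hg : ∀ g, ∃ x : E, g < D.G.length → Rep (X.π x) (D.G.getD g (0, 0)).1 ∧
      Rep (X.π x)⁻¹ (D.G.getD g (0, 0)).2 := by
    intro g
    by_cases h : g < D.G.length
    · have hc : elemCheck 1 16777215 (D.G.getD g (0, 0)).1 (D.G.getD g (0, 0)).2 = true := by
        have hs'' := hs
        simp only [sylCheck, Bool.and_eq_true, List.all_eq_true] at hs''
        obtain ⟨⟨⟨⟨⟨-, hG⟩, -⟩, -⟩, -⟩, -⟩ := hs''
        rw [List.getD_eq_getElem D.G _ h]
        exact hG _ (List.getElem_mem h)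
      obtain ⟨p, hp, h1, h2⟩ := elem_mem_M23 hc
      obtain ⟨x, rfl⟩ := X.exists_lift hp
      exact ⟨x, fun _ => ⟨h1, h2⟩⟩
    · exact ⟨1, fun h' => absurd h' h⟩
  choose g hg using hg
  have hU : ∀ l, ∃ u : Fin 11 → ZMod 2, l < D.hl.length →
      g (D.hl.getD l (0, 0, 0)).1 * bprod b (D.hl.getD l (0, 0, 0)).2.1 * (g (D.hl.getD l (0, 0, 0)).1)⁻¹ =
        X.ι u * bprod b (D.hl.getD l (0, 0, 0)).2.2 := by
    intro l
    by_cases hl : l < D.hl.length
    · obtain ⟨⟨⟨h1, h2⟩, h3⟩, hw⟩ := hhl _ (List.getD_eq_getElem D.hl (0, 0, 0) hl ▸ List.getElem_mem hl)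
      obtain ⟨hgr, hgi⟩ := hg _ h1
      set gg := (D.hl.getD l (0, 0, 0)).1
      let gs : ℕ → Equiv.Perm GolayPt := fun a =>
        if a < 7 then X.π (b a) else if a = 7 then X.π (g gg) else (X.π (g gg))⁻¹
      have hlen : D.imgs.length = 7 := by
        have hs'' := hs
        simp only [sylCheck, Bool.and_eq_true, Nat.beq_eq] at hs''
        simp [SylData.imgs]; omega
      have hrep : ∀ a < 9, Rep (gs a) ((D.imgs ++ [(D.G.getD gg (0, 0)).1, (D.G.getD gg (0, 0)).2]).getD a 0) := by
        intro a ha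
        by_cases h7 : a < 7
        · simp only [gs, if_pos h7]
          rw [List.getD_append _ _ _ _ (by omega)]
          exact hR.rep a h7
        · rw [List.getD_append_right _ _ _ _ (by omega), hlen]
          obtain rfl | rfl : a = 7 ∨ a = 8 := by omega
          · simpa [gs] using hgr
          · simpa [gs] using hgi
      have hw' := (wEq_iff (gs := gs) fun a ha => hrep a (by
        simp only [List.mem_append, List.mem_cons, List.not_mem_nil, or_false] at ha
        rcases ha with ((rfl | ha) | rfl) | ha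
        · norm_num
        · exact lt_trans (bitsL_lt ha) (by norm_num)
        · norm_num
        · exact lt_trans (bitsL_lt ha) (by norm_num))).1 hw
      have hcongr : ∀ e, wordProd gs (bitsL e) = X.π (bprod b e) := fun e => by
        rw [bprod, map_wordProd]
        exact wordProd_congr fun a ha => by simp [gs, bitsL_lt ha]
      rw [wordProd_append, wordProd_append, hcongr, hcongr] at hw'
      have hπ : X.π (g gg * bprod b (D.hl.getD l (0, 0, 0)).2.1 * (g gg)⁻¹) = X.π (bprod b (D.hl.getD l (0, 0, 0)).2.2) := by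
        rw [map_mul, map_mul, map_inv, ← hw']
        simp [wordProd, gs]
      obtain ⟨u, hu⟩ := X.exists_ι hπ
      exact ⟨u, fun _ => hu.symm⟩
    · exact ⟨0, fun h => absurd h hl⟩
  choose U hU using hU
  set K := 308 + 11 * D.hl.length with hK
  let z : ℕ → ZMod 2 := fun k => if k < 308 then zOf Z k else zOf U (k - 308)
  have hVz : ∀ n < 28, veval K z (Vz n) = Z n := fun n hn => by
    rw [Vz, veval_vunit _ _ (by omega)]
    funext k
    have e1 : (11 * n + k.val) / 11 = n := by omega
    have e2 : (11 * n + k.val) % 11 = k.val := by omega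
    simp only [z, if_pos (show 11 * n + k.val < 308 by omega), zOf, e1, e2]
  have L : Lifts X c.R D.rel Vz b K z := lifts_of_rels hs hr hR (fun n _ => length_vunit _) hVz
  -- every listed equation holds
  have hsrc : ∀ l < (srcStates D).length, ((srcStates D).getD l (vzero, 0)).2 < 128 ∧
      sval X b K z ((srcStates D).getD l (vzero, 0)) = bprod b (D.hl.getD l (0, 0, 0)).2.1 := by
    intro l hl
    simp only [srcStates, List.length_map] at hl
    simp only [srcStates, List.getD_eq_getElem?_getD, List.getElem?_map, List.getElem?_eq_getElem hl,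
      Option.map_some, Option.getD_some]
    exact ⟨(hhl _ (List.getElem_mem hl)).1.1.2, by rw [sval, veval_vzero, X.ι_zero, one_mul]⟩
  have htgt : ∀ l < (tgtStates D).length, ((tgtStates D).getD l (vzero, 0)).2 < 128 ∧
      sval X b K z ((tgtStates D).getD l (vzero, 0)) =
        g (D.hl.getD l (0, 0, 0)).1 * bprod b (D.hl.getD l (0, 0, 0)).2.1 * (g (D.hl.getD l (0, 0, 0)).1)⁻¹ := by
    intro l hl
    simp only [tgtStates, List.length_map, List.length_range] at hl
    have e : (tgtStates D).getD l (vzero, 0) = (vunit (308 + 11 * l), (D.hl.getD l (0, 0, 0)).2.2) := by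
      simp [tgtStates, List.getD_eq_getElem?_getD, List.getElem?_map, List.getElem?_range hl]
    rw [e]
    refine ⟨(hhl _ (List.getD_eq_getElem D.hl (0, 0, 0) hl ▸ List.getElem_mem hl)).1.2, ?_⟩
    rw [hU l hl, sval, veval_vunit _ _ (by omega)]
    refine congrArg (fun u => X.ι u * _) ?_
    funext k
    have e1 : (308 + 11 * l + k.val - 308) / 11 = l := by omega
    have e2 : (308 + 11 * l + k.val - 308) % 11 = k.val := by omega
    simp only [z, if_neg (show ¬ (308 + 11 * l + k.val < 308) by omega), zOf, e1, e2]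
  simp only [eqsCheck, Bool.and_eq_true, decide_eq_true_eq, List.all_eq_true, Nat.blt_eq] at he
  obtain ⟨⟨⟨htri, huse⟩, hsome⟩, hflat⟩ := he
  have hopt : ∀ o ∈ assocEqs D c ++ conjEqs D c, ∀ d, o = some d → veval K z d = 0 ∧ d.length = 11 := by
    intro o ho d hd
    subst hd
    have lenS : ∀ {o1 o2 : Option State} {d : Vec}, sdiff o1 o2 = some d → d.length = 11 := by
      intro o1 o2 d hd
      cases o1 with
      | none => simp [sdiff] at hd
      | some x =>
        cases o2 with
        | none => simp [sdiff] at hd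
        | some y =>
          simp only [sdiff] at hd
          cases hb : Nat.beq x.2 y.2 <;> simp only [hb, cond_true, cond_false, Option.some.injEq, reduceCtorEq] at hd
          subst hd
          exact length_vadd _ _
    rcases List.mem_append.1 ho with ho | ho
    · obtain ⟨⟨k, j, i⟩, ht, hd⟩ := List.mem_map.1 ho
      obtain ⟨⟨hk, hj⟩, hi⟩ := htri _ ht
      refine ⟨?_, lenS hd⟩
      obtain ⟨a', c', ha, hc, hee⟩ := sdiff_sound (X := X) (b := b) (K := K) (z := z) hd
      refine veval_eq_zero (X := X) hee ?_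
      rw [Option.bind_eq_some_iff] at ha hc
      obtain ⟨a1, ha1, ha2⟩ := ha
      obtain ⟨c1, hc1, hc2⟩ := hc
      have hB : ∀ m < 7, (genStates.getD m (vzero, 0)).1.length = 11 ∧ (genStates.getD m (vzero, 0)).2 < 128 := fun m hm => by
        rw [genStates, getD_genLike hm]; exact ⟨length_vzero, pow_lt m hm⟩
      obtain ⟨a1l, a1e, a1v⟩ := smul_sound L (hB j hj).1 (hB k hk).2 ha1
      obtain ⟨-, -, a2v⟩ := smul_sound L (hB i hi).1 a1e ha2
      obtain ⟨c1l, c1e, c1v⟩ := smul_sound L (hB i hi).1 (hB j hj).2 hc1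
      obtain ⟨-, -, c2v⟩ := smul_sound L c1l (hB k hk).2 hc2
      rw [← a2v, ← a1v, ← c2v, ← c1v, mul_assoc]
    · obtain ⟨r, hru, hd⟩ := List.mem_map.1 ho
      have hr' : r ∈ D.rels := by
        obtain ⟨u, hu, rfl⟩ := List.mem_map.1 hru
        exact List.getD_eq_getElem D.rels (0, [], []) (huse u hu) ▸ List.getElem_mem (huse u hu)
      obtain ⟨hr1, hr2⟩ := hrels r hr'
      simp only [Option.bind_eq_some_iff, Option.map_eq_some_iff] at hd
      obtain ⟨d1, hd1, d2, hd2, rfl⟩ := hd
      refine ⟨?_, length_vadd _ _⟩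
      obtain ⟨a', c', ha, hc, hee⟩ := sdiff_sound (X := X) (b := b) (K := K) (z := z) hd1
      obtain ⟨a'', c'', ha', hc', hee'⟩ := sdiff_sound (X := X) (b := b) (K := K) (z := z) hd2
      have hl1 : ∀ l ∈ r.2.1, l < D.hl.length ∧ (D.hl.getD l (0, 0, 0)).1 = r.1 := fun l hl => hr2 l (List.mem_append_left _ hl)
      have hl2 : ∀ l ∈ r.2.2, l < D.hl.length ∧ (D.hl.getD l (0, 0, 0)).1 = r.1 := fun l hl => hr2 l (List.mem_append_right _ hl)
      have hsl : (srcStates D).length = D.hl.length := by simp [srcStates]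
      have htl : (tgtStates D).length = D.hl.length := by simp [tgtStates]
      obtain ⟨-, -, s1⟩ := sword_sound L hsrc r.2.1 a' (fun l hl => hsl ▸ (hl1 l hl).1) ha
      obtain ⟨-, -, s2⟩ := sword_sound L hsrc r.2.2 c' (fun l hl => hsl ▸ (hl2 l hl).1) hc
      obtain ⟨-, -, t1⟩ := sword_sound L htgt r.2.1 a'' (fun l hl => htl ▸ (hl1 l hl).1) ha'
      obtain ⟨-, -, t2⟩ := sword_sound L htgt r.2.2 c'' (fun l hl => htl ▸ (hl2 l hl).1) hc'
      have hconj : ∀ w : List ℕ, (∀ l ∈ w, (D.hl.getD l (0, 0, 0)).1 = r.1) →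
          wordProd (fun l => g (D.hl.getD l (0, 0, 0)).1 * bprod b (D.hl.getD l (0, 0, 0)).2.1 * (g (D.hl.getD l (0, 0, 0)).1)⁻¹) w =
            g r.1 * wordProd (fun l => bprod b (D.hl.getD l (0, 0, 0)).2.1) w * (g r.1)⁻¹ := by
        intro w
        induction w with
        | nil => intro _; simp [wordProd]
        | cons l w ih =>
          intro hw
          have := ih fun m hm => hw m (List.mem_cons_of_mem _ hm)
          simp only [wordProd, List.map_cons, List.prod_cons] at this ⊢
          rw [this, hw l (List.mem_cons_self ..)]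
          group
      rw [hconj _ fun l hl => (hl1 l hl).2] at t1
      rw [hconj _ fun l hl => (hl2 l hl).2] at t2
      rw [← s1, ← s2] at hee
      rw [← t1, ← t2, hee] at hee'
      have hGR : c.GR.getD r.1 [] = rows (D.G.getD r.1 (0, 0)).1 (D.G.getD r.1 (0, 0)).2 := by
        simp only [rowsCheck, Bool.and_eq_true, decide_eq_true_eq] at hr
        rw [hr.1.2]
        simp [List.getD_eq_getElem?_getD, List.getElem?_map, List.getElem?_eq_getElem hr1]
      have hact : g r.1 * X.ι (veval K z d1) * (g r.1)⁻¹ = X.ι (veval K z (actV (c.GR.getD r.1 []) d1)) := by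
        rw [veval_actV K z _ (lenS hd1), hGR]
        exact X.conj _ _ _ (hg _ hr1).1 (hg _ hr1).2 _
      have : X.ι (veval K z (actV (c.GR.getD r.1 []) d1)) = X.ι (veval K z d2) := by
        rw [← hact]
        refine mul_right_cancel (b := g r.1 * wordProd (fun l => bprod b (D.hl.getD l (0, 0, 0)).2.1) r.2.2 * (g r.1)⁻¹) ?_
        rw [← hee']
        group
      rw [veval_vadd, X.ι_inj this]
      funext k
      exact CharTwo.add_self_eq_zero _
  have heq0 : ∀ x ∈ c.eqs ++ [c.phi], feval K z x = 0 := by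
    intro x hx
    rcases List.mem_append.1 hx with hx | hx
    · rw [← hflat] at hx
      obtain ⟨l, hl, hxl⟩ := List.mem_flatten.1 hx
      obtain ⟨o, ho, rfl⟩ := List.mem_map.1 hl
      obtain ⟨d, rfl⟩ := Option.isSome_iff_exists.1 (hsome o ho)
      obtain ⟨h0, hlen⟩ := hopt _ ho d rfl
      obtain ⟨k, hk, rfl⟩ := List.getElem_of_mem hxl
      have := congrFun h0 ⟨k, by simp only [Option.getD_some] at hk; omega⟩
      simp only [veval, Pi.zero_apply, Option.getD_some] at this
      rw [List.getD_eq_getElem _ 0 (by simpa using hk)] at this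
      exact this
    · rw [List.mem_singleton] at hx
      subst hx
      rw [feval_phi hr z (by omega), ← hphi, phiVal]
      exact sum_congr rfl fun k hk => by simp only [z, if_pos (mem_range.1 hk)]
  -- the corrected lifts
  simp only [splitCheck, Bool.and_eq_true, List.all_eq_true, Nat.beq_eq] at hsp
  obtain ⟨-, hpairs⟩ := hsp
  refine ⟨shiftLifts X b fun i => veval K z (c.T.getD i vzero), rep_shift _ hR.rep, fun i j hij hj => ?_⟩
  have hq := hpairs (i, j) (mem_pairs hij hj)
  simp only [newStates] at hq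
  split at hq
  · rename_i d hd
    rw [shift_rel hs L (fun i _ => rfl) hij hj hd]
    refine congrArg (fun u => X.ι u * _) ?_
    funext k
    have hk := List.all_eq_true.1 hq k.val (List.mem_range.2 k.isLt)
    rw [Nat.beq_eq] at hk
    simp only [veval, hk, Pi.zero_apply]
    rw [feval_rowXor]
    refine sum_eq_zero fun m hm => ?_
    rw [List.getD_eq_getElem (c.eqs ++ [c.phi]) 0 (mem_range.1 hm), heq0 _ (List.getElem_mem _)]
    simp
  · simp at hq

/-- The exact normal forms are closed under multiplication by generators. -/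
def closeCheck (D : SylData) (c : Cert) : Bool :=
  (List.range 128).all fun e => (List.range 7).all fun i =>
    (run c.R D.rel (fun _ => vzero) fuel (vzero, e) [i]).isSome

/-- Exact lifts generate a complement of the module over a Sylow subgroup, so there is a complement. -/
theorem complement_of_exact [Finite E] (hs : sylCheck D = true) (hn : nfCheck D = true)
    (hr : rowsCheck rows D c = true) (hcl : closeCheck D c = true)
    {b : ℕ → E} (h : Rels X D b 0) :
    ∃ H : Subgroup E, H ⊓ X.π.ker = ⊥ ∧ H ⊔ X.π.ker = ⊤ := by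
  classical
  have L : Lifts X c.R D.rel (fun _ => vzero) b 0 (fun _ => 0) :=
    lifts_of_rels hs hr h (fun _ _ => length_vzero) fun n _ => by rw [veval_vzero]; rfl
  have hz : ∀ v, veval 0 (fun _ => (0 : ZMod 2)) v = 0 := fun v => funext fun k => by simp [veval, feval]
  have hsv : ∀ s : State, sval X b 0 (fun _ => 0) s = bprod b s.2 := fun s => by
    rw [sval, hz, X.ι_zero, one_mul]
  have hclosed : ∀ e < 128, ∀ i < 7, ∃ e' < 128, bprod b e * b i = bprod b e' := by
    intro e he i hi
    simp only [closeCheck, List.all_eq_true, List.mem_range] at hcl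
    obtain ⟨r, hr'⟩ := Option.isSome_iff_exists.1 (hcl e he i hi)
    obtain ⟨-, r2, r3⟩ := run_sound L fuel (vzero, e) [i] r length_vzero he (by simpa using hi) hr'
    rw [hsv, hsv] at r3
    exact ⟨r.2, r2, by simpa [wordProd] using r3⟩
  set A : Subgroup E := Subgroup.closure {x | ∃ i < 7, b i = x} with hA
  have hAset : ∀ x ∈ A, ∃ e < 128, bprod b e = x := by
    intro x hx
    rw [hA, ← Subgroup.mem_toSubmonoid, Subgroup.closure_toSubmonoid_of_finite] at hx
    refine Submonoid.closure_induction_right (motive := fun x _ => ∃ e < 128, bprod b e = x)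
      ⟨0, by norm_num, by simp [bprod, bitsL_zero, wordProd]⟩ ?_ hx
    rintro x _ y ⟨i, hi, rfl⟩ ⟨e, he, rfl⟩
    obtain ⟨e', he', hE⟩ := hclosed e he i hi
    exact ⟨e', he', hE.symm⟩
  have hbA : ∀ e, bprod b e ∈ A := fun e => Subgroup.list_prod_mem _ fun x hx => by
    obtain ⟨i, hi, rfl⟩ := List.mem_map.1 hx
    exact Subgroup.subset_closure ⟨i, bitsL_lt hi, rfl⟩
  have hrep : ∀ e, Rep (X.π (bprod b e)) (packW D.imgs (bitsL e)) := fun e => by
    rw [bprod, map_wordProd]
    exact rep_packW fun a ha => h.rep a (bitsL_lt ha)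
  have hinj : ∀ e < 128, ∀ e' < 128, X.π (bprod b e) = X.π (bprod b e') → e = e' := by
    intro e he e' he' heq
    have hp : packW D.imgs (bitsL e) = packW D.imgs (bitsL e') := by
      refine congrArg packList (List.map_congr_left fun x hx => ?_)
      have hg : ∀ e, ∀ a ∈ bitsL e, Rep (X.π (b a)) (D.imgs.getD a 0) := fun e a ha => h.rep a (bitsL_lt ha)
      have h1 := evalW_eq (bitsL e) (hg e) (gpt ⟨x, mem_bits24.1 hx⟩)
      have h2 := evalW_eq (bitsL e') (hg e') (gpt ⟨x, mem_bits24.1 hx⟩)
      rw [← map_wordProd, gidx_gpt] at h1 h2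
      rw [← h1, ← h2]
      show (gidx (X.π (bprod b e) _)).val = (gidx (X.π (bprod b e') _)).val
      rw [heq]
    simp only [nfCheck, decide_eq_true_eq] at hn
    exact List.inj_on_of_nodup_map hn (List.mem_range.2 he) (List.mem_range.2 he') hp
  have hπ1 : X.π (bprod b 0) = 1 := by simp [bprod, bitsL_zero, wordProd]
  have hdis : A ⊓ X.π.ker = ⊥ := by
    rw [Subgroup.eq_bot_iff_forall]
    rintro x ⟨hxA, hxk⟩
    obtain ⟨e, he, rfl⟩ := hAset x hxA
    obtain rfl : e = 0 := hinj e he 0 (by norm_num) (hxk.trans hπ1.symm)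
    simp [bprod, bitsL_zero, wordProd]
  have hcardA : Nat.card A = 128 := by
    rw [← Nat.card_fin 128]
    symm
    refine Nat.card_eq_of_bijective (fun e : Fin 128 => (⟨bprod b e, hbA e⟩ : A)) ⟨fun e e' heq => ?_, fun x => ?_⟩
    · exact Fin.ext (hinj e e.2 e' e'.2 (congrArg X.π (congrArg Subtype.val heq)))
    · obtain ⟨e, he, hx⟩ := hAset x x.2
      exact ⟨⟨e, he⟩, Subtype.ext hx⟩
  set N := X.π.ker with hN
  haveI : N.Normal := X.π.normal_ker
  haveI : IsMulCommutative N := ⟨⟨fun x y => by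
    obtain ⟨u, hu⟩ := (X.ι_range x).1 x.2
    obtain ⟨v, hv⟩ := (X.ι_range y).1 y.2
    apply Subtype.ext
    show (x : E) * y = y * x
    rw [← hu, ← hv, ← X.ι_add, ← X.ι_add, add_comm]⟩⟩
  have hcardN : Nat.card N = 2 ^ 11 := by
    rw [show 2 ^ 11 = Nat.card (Fin 11 → ZMod 2) by simp]
    refine (Nat.card_eq_of_bijective (fun u => (⟨X.ι u, X.π_ι u⟩ : N)) ⟨fun u v huv => ?_, fun x => ?_⟩).symm
    · exact X.ι_inj (congrArg Subtype.val huv)
    · obtain ⟨u, hu⟩ := (X.ι_range x).1 x.2
      exact ⟨u, Subtype.ext hu⟩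
  have hidxN : N.index = 10200960 := by
    rw [hN, Subgroup.index_ker, X.range_π, card_sporM23]
  have hUcard : Nat.card ↥(N ⊔ A) = 2 ^ 11 * 128 := by
    rw [← hcardN, ← hcardA, ← Nat.card_prod]
    symm
    refine Nat.card_eq_of_bijective
      (fun q : N × A => (⟨(q.1 : E) * q.2, Subgroup.mul_mem_sup q.1.2 q.2.2⟩ : ↥(N ⊔ A))) ⟨?_, fun x => ?_⟩
    · rintro ⟨n, a⟩ ⟨n', a'⟩ hq
      have hq' : (n : E) * a = n' * a' := congrArg Subtype.val hq
      have : (a : E) * (a' : E)⁻¹ ∈ A ⊓ X.π.ker := by
        refine ⟨A.mul_mem a.2 (A.inv_mem a'.2), ?_⟩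
        have e : (a : E) * (a' : E)⁻¹ = (n : E)⁻¹ * n' := by
          rw [eq_inv_mul_iff_mul_eq, ← mul_assoc, hq', mul_inv_cancel_right]
        rw [e]
        exact N.mul_mem (N.inv_mem n.2) n'.2
      rw [hdis, Subgroup.mem_bot, mul_inv_eq_one] at this
      obtain rfl : a = a' := Subtype.ext this
      exact Prod.ext (Subtype.ext (mul_right_cancel hq')) rfl
    · obtain ⟨n, hn', a, ha, hna⟩ := Subgroup.mem_sup_of_normal_left.1 x.2
      exact ⟨(⟨n, hn'⟩, ⟨a, ha⟩), Subtype.ext hna⟩
  have hcop : (Nat.card N).Coprime (N ⊔ A).index := by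
    have h1 := (N ⊔ A).index_mul_card
    have h2 := N.index_mul_card
    rw [hidxN, hcardN] at h2
    rw [hUcard, ← h2] at h1
    have : (N ⊔ A).index = 79695 := by norm_num at h1 ⊢; omega
    rw [hcardN, this]; norm_num
  obtain ⟨H, hH⟩ := Cfsg.Lib.GaschutzAbelian.exists_complement N (N ⊔ A) le_sup_left hcop A le_sup_right hdis rfl
  exact ⟨H, by rw [inf_comm]; exact hH.disjoint.eq_bot, by rw [sup_comm]; exact hH.sup_eq_top⟩

/-- An extension whose `phi` vanishes splits. -/
theorem complement_of_phi [Finite E] (hs : sylCheck D = true) (hn : nfCheck D = true)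
    (hr : rowsCheck rows D c = true) (hcl : closeCheck D c = true) (he : eqsCheck D c = true)
    (hsp : splitCheck D c = true) {b : ℕ → E} {Z : ℕ → Fin 11 → ZMod 2} (hR : Rels X D b Z)
    (hphi : phiVal c Z = 0) : ∃ H : Subgroup E, H ⊓ X.π.ker = ⊥ ∧ H ⊔ X.π.ker = ⊤ := by
  obtain ⟨b', hb'⟩ := exists_exact hs hr he hsp hR hphi
  exact complement_of_exact hs hn hr hcl hb'

/-- An extension with a complement has vanishing `phi`. -/
theorem phi_zero_of_complement (hs : sylCheck D = true) (hr : rowsCheck rows D c = true)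
    (hp : phiCheck D c = true) {b : ℕ → E} {Z : ℕ → Fin 11 → ZMod 2} (hR : Rels X D b Z)
    {H : Subgroup E} (hH : H ⊓ X.π.ker = ⊥) (hH' : H ⊔ X.π.ker = ⊤) : phiVal c Z = 0 := by
  have hlift : ∀ i, ∃ y ∈ H, X.π y = X.π (b i) := fun i => by
    haveI : X.π.ker.Normal := X.π.normal_ker
    obtain ⟨y, hy, n, hn, hyn⟩ := Subgroup.mem_sup_of_normal_right.1 (hH'.symm ▸ Subgroup.mem_top (b i))
    exact ⟨y, hy, by rw [← hyn, map_mul, MonoidHom.mem_ker.1 hn, mul_one]⟩
  choose y hy hπ using hlift
  obtain ⟨Z', hR'⟩ := exists_rels (X := X) hs (b := y) fun i hi => by rw [hπ]; exact hR.rep i hi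
  have h0 : ∀ i j, i ≤ j → j < 7 → y j * y i = wordProd y (rhsWord D i j) := fun i j hij hj => by
    have e := hR'.eq i j hij hj
    have hmem : X.ι (Z' (pairIdx i j)) ∈ H ⊓ X.π.ker := by
      refine ⟨?_, X.π_ι _⟩
      rw [← eq_mul_inv_iff_mul_eq] at e
      have e' := (eq_mul_inv_iff_mul_eq.2 (hR'.eq i j hij hj).symm)
      rw [e']
      refine H.mul_mem (H.mul_mem (hy j) (hy i)) (H.inv_mem ?_)
      exact Subgroup.list_prod_mem _ fun x hx => by
        obtain ⟨k, -, rfl⟩ := List.mem_map.1 hx
        exact hy k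
    rw [hH, Subgroup.mem_bot] at hmem
    rw [hR'.eq i j hij hj, hmem, one_mul]
  exact phi_zero_of_exact hs hr hp (b₀ := y)
    ⟨hR'.rep, fun i j hij hj => by rw [Pi.zero_apply, X.ι_zero, one_mul]; exact h0 i j hij hj⟩ hR

end Cfsg.Lib.Concrete.M23Ext
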