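import Cfsg.Agent.Lib.Concrete.MathieuOut

/-!
Extensions of M23 by an elementary abelian group of order 2^11 over a Sylow 2-subgroup: the
collection process with linear forms as module coordinates.
-/

set_option autoImplicit false

namespace Cfsg.Lib.Concrete.M23Ext

open Finset

/-- The value of a linear form stored as a bit mask. -/
def feval (K : ℕ) (z : ℕ → ZMod 2) (m : ℕ) : ZMod 2 :=
  ∑ k ∈ range K, if m.testBit k then z k else 0

theorem feval_zero (K : ℕ) (z : ℕ → ZMod 2) : feval K z 0 = 0 := by simp [feval]

theorem feval_xor (K : ℕ) (z : ℕ → ZMod 2) (a b : ℕ) :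
    feval K z (a ^^^ b) = feval K z a + feval K z b := by
  rw [feval, feval, feval, ← sum_add_distrib]
  refine sum_congr rfl fun k _ => ?_
  rw [Nat.testBit_xor]
  cases a.testBit k <;> cases b.testBit k <;> simp [CharTwo.add_self_eq_zero]

theorem feval_shift (K : ℕ) (z : ℕ → ZMod 2) {j : ℕ} (hj : j < K) :
    feval K z (Nat.shiftLeft 1 j) = z j := by
  show ∑ k ∈ range K, (if (1 <<< j).testBit k then z k else 0) = z j
  simp only [Nat.one_shiftLeft, Nat.testBit_two_pow, decide_eq_true_eq]
  rw [sum_ite_eq, if_pos (mem_range.2 hj)]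

/-- Coordinates as linear forms. -/
abbrev Vec := List ℕ

/-- The zero vector. -/
def vzero : Vec := List.replicate 11 0

/-- Evaluation of a vector of forms. -/
def veval (K : ℕ) (z : ℕ → ZMod 2) (v : Vec) : Fin 11 → ZMod 2 := fun c => feval K z (v.getD c.val 0)

/-- The sum. -/
def vadd (a b : Vec) : Vec := (List.range 11).map fun c => Nat.xor (a.getD c 0) (b.getD c 0)

/-- The vector of eleven consecutive unknowns from `k`. -/
def vunit (k : ℕ) : Vec := (List.range 11).map fun c => Nat.shiftLeft 1 (k + c)

theorem getD_map_range (f : ℕ → ℕ) {c : ℕ} (hc : c < 11) : ((List.range 11).map f).getD c 0 = f c := by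
  rw [List.getD_eq_getElem?_getD, List.getElem?_map, List.getElem?_range hc]
  rfl

theorem veval_vzero (K : ℕ) (z : ℕ → ZMod 2) : veval K z vzero = 0 := by
  funext c
  show feval K z (vzero.getD c.val 0) = 0
  rw [show vzero.getD c.val 0 = 0 by fin_cases c <;> rfl, feval_zero]

theorem veval_vadd (K : ℕ) (z : ℕ → ZMod 2) (a b : Vec) :
    veval K z (vadd a b) = veval K z a + veval K z b := by
  funext c
  simp only [veval, vadd, Pi.add_apply, getD_map_range _ c.isLt]
  exact feval_xor K z _ _

theorem veval_vunit (K : ℕ) (z : ℕ → ZMod 2) {k : ℕ} (hk : k + 11 ≤ K) :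
    veval K z (vunit k) = fun c => z (k + c.val) := by
  funext c
  simp only [veval, vunit, getD_map_range _ c.isLt]
  exact feval_shift K z (by omega)

/-- The action of a matrix given by its rows. -/
def actFn (R : List ℕ) (u : Fin 11 → ZMod 2) : Fin 11 → ZMod 2 :=
  fun j => ∑ i : Fin 11, if (R.getD j.val 0).testBit i.val then u i else 0

theorem actFn_add (R : List ℕ) (u v : Fin 11 → ZMod 2) : actFn R (u + v) = actFn R u + actFn R v := by
  funext j
  simp only [actFn, Pi.add_apply, ← sum_add_distrib]
  exact sum_congr rfl fun i _ => by split <;> simp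

/-- The action on forms. -/
def rowXor (r : ℕ) : Vec → ℕ → ℕ
  | [], _ => 0
  | x :: L, i => bif Nat.testBit r i then Nat.xor x (rowXor r L (i + 1)) else rowXor r L (i + 1)

theorem feval_rowXor (K : ℕ) (z : ℕ → ZMod 2) (r : ℕ) : ∀ (L : Vec) (i : ℕ),
    feval K z (rowXor r L i) = ∑ k ∈ range L.length, if r.testBit (i + k) then feval K z (L.getD k 0) else 0 := by
  intro L
  induction L with
  | nil => intro i; simp [rowXor, feval_zero]
  | cons x L ih =>
    intro i
    rw [List.length_cons, sum_range_succ', rowXor]
    have e : (∑ k ∈ range L.length,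
        if r.testBit (i + (k + 1)) then feval K z ((x :: L).getD (k + 1) 0) else 0) =
        feval K z (rowXor r L (i + 1)) := by
      rw [ih (i + 1)]
      refine sum_congr rfl fun k _ => ?_
      rw [List.getD_cons_succ, show i + (k + 1) = i + 1 + k by omega]
    rw [e, List.getD_cons_zero, Nat.add_zero]
    cases r.testBit i
    · simp
    · show feval K z (x ^^^ rowXor r L (i + 1)) = _
      rw [feval_xor, if_pos rfl, add_comm]

/-- The action of a matrix on a vector of forms. -/
def actV (R : List ℕ) (v : Vec) : Vec := (List.range 11).map fun j => rowXor (R.getD j 0) v 0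

theorem veval_actV (K : ℕ) (z : ℕ → ZMod 2) (R : List ℕ) {v : Vec} (hv : v.length = 11) :
    veval K z (actV R v) = actFn R (veval K z v) := by
  funext j
  simp only [veval, actV, getD_map_range _ j.isLt, actFn]
  rw [feval_rowXor, hv]
  simp only [Nat.zero_add]
  exact (Fin.sum_univ_eq_sum_range (fun k => if (R.getD j.val 0).testBit k then feval K z (v.getD k 0) else 0) 11).symm

theorem length_actV (R : List ℕ) (v : Vec) : (actV R v).length = 11 := by simp [actV]

theorem length_vadd (a b : Vec) : (vadd a b).length = 11 := by simp [vadd]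

theorem length_vunit (k : ℕ) : (vunit k).length = 11 := by simp [vunit]

theorem length_vzero : vzero.length = 11 := by simp [vzero]

/-- The letters of a normal form. -/
def bitsL (e : ℕ) : List ℕ := (List.range 7).filter fun i => Nat.testBit e i

/-- The highest bit below seven. -/
def top (e : ℕ) : ℕ := (List.range 7).foldl (fun t i => bif Nat.testBit e i then i else t) 0

/-- Index of the relation of two generators. -/
def pairIdx (i j : ℕ) : ℕ := i * (13 - i) / 2 + j

theorem step_spec : ∀ e < 128, ∀ i < 7,
    if (e >>> i = 0) then (e ||| 2 ^ i < 128 ∧ bitsL (e ||| 2 ^ i) = bitsL e ++ [i])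
    else (top e < 7 ∧ i ≤ top e ∧ e ^^^ 2 ^ top e < 128 ∧ bitsL e = bitsL (e ^^^ 2 ^ top e) ++ [top e] ∧
      pairIdx i (top e) < 28) := by
  decide +kernel

theorem bitsL_lt {e i : ℕ} (h : i ∈ bitsL e) : i < 7 := List.mem_range.1 (List.mem_filter.1 h).1

theorem bitsL_zero : bitsL 0 = [] := by decide

/-- A state: coordinates of the module part, exponents of the normal form. -/
abbrev State := Vec × ℕ

/-- The action of a normal form. -/
def actNF (R : List (List ℕ)) (e : ℕ) (v : Vec) : Vec :=
  (bitsL e).foldr (fun i w => actV (R.getD i []) w) v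

/-- Collection: appending letters on the right. -/
def run (R : List (List ℕ)) (rel : List (List ℕ)) (V : ℕ → Vec) : ℕ → State → List ℕ → Option State
  | _, s, [] => some s
  | 0, _, _ :: _ => none
  | n + 1, (v, e), i :: w =>
    bif Nat.beq (e >>> i) 0 then run R rel V n (v, e ||| 2 ^ i) w
    else
      let j := top e
      let p := e ^^^ 2 ^ j
      let v' := vadd v (actNF R p (V (pairIdx i j)))
      bif Nat.beq i j then run R rel V n (v', p) (rel.getD (pairIdx i j) [] ++ w)
      else run R rel V n (v', p) (i :: rel.getD (pairIdx i j) [] ++ w)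

/-- The fuel. -/
def fuel : ℕ := 5000

/-- The product of two states. -/
def smul (R rel : List (List ℕ)) (V : ℕ → Vec) (a b : State) : Option State :=
  run R rel V fuel (vadd a.1 (actNF R a.2 b.1), a.2) (bitsL b.2)

/-- The product of a word in states. -/
def sword (R rel : List (List ℕ)) (V : ℕ → Vec) (H : List State) : List ℕ → Option State
  | [] => some (vzero, 0)
  | l :: w => (sword R rel V H w).bind fun b => smul R rel V (H.getD l (vzero, 0)) b

/-- The forms by which two products differ, if their normal forms agree. -/
def sdiff : Option State → Option State → Option Vec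
  | some a, some b => bif Nat.beq a.2 b.2 then some (vadd a.1 b.1) else none
  | _, _ => none

end Cfsg.Lib.Concrete.M23Ext
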