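import Cfsg.Agent.Lib.Concrete.M23Ext.Module

/-!
Extensions by the code module split; non-split extensions by the cocode module are isomorphic.
-/

set_option autoImplicit false
set_option linter.style.haveILetI false

namespace Cfsg.Lib.Concrete.M23Ext

open Finset

theorem feval_add_left (K : ℕ) (z w : ℕ → ZMod 2) (m : ℕ) :
    feval K (fun k => z k + w k) m = feval K z m + feval K w m := by
  rw [feval, feval, feval, ← sum_add_distrib]
  exact sum_congr rfl fun k _ => by split <;> simp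

theorem code_complement {E : Type*} [Group E] [Finite E] (X : Ext E codeRows) :
    ∃ H : Subgroup E, H ⊓ X.π.ker = ⊥ ∧ H ⊔ X.π.ker = ⊤ := by
  obtain ⟨b, hb⟩ := exists_lifts (X := X) m23Syl_check
  obtain ⟨Z, hR⟩ := exists_rels (X := X) m23Syl_check hb
  exact complement_of_phi m23Syl_check m23Syl_nf code_rows code_close code_eqs code_split hR
    (feval_zero _ _)

variable {E : Type*} [Group E] {E' : Type*} [Group E'] (X : Ext E cocodeRows) (X' : Ext E' cocodeRows)

/-- A packed permutation represents it. -/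
theorem rep_packList (σ : Equiv.Perm GolayPt) :
    Rep σ (packList (bits24.map fun i => (gidx (σ (gpt (Fin.ofNat 24 i)))).val)) := by
  intro x
  have hi := (gidx x).isLt
  have hlen : bits24.length = 24 := rfl
  rw [pget_packList _ (fun a ha => by
    obtain ⟨i, -, rfl⟩ := List.mem_map.1 ha
    exact lt_trans (Fin.isLt _) (by norm_num)) _ (by rw [List.length_map, hlen]; exact hi)]
  have hget : ∀ i < 24, bits24.getD i 0 = i := by decide
  have h := hget _ hi
  rw [List.getD_eq_getElem _ _ (by rw [hlen]; exact hi)] at h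
  rw [List.getD_eq_getElem _ _ (by rw [List.length_map, hlen]; exact hi), List.getElem_map, h]
  congr 3
  rw [← gpt_gidx x]
  congr 1
  ext
  simp [gidx_gpt, Nat.mod_eq_of_lt hi]

/-- Pairs with the same permutation. -/
def fibre : Subgroup (E × E') := (X.π.comp (MonoidHom.fst E E')).eqLocus (X'.π.comp (MonoidHom.snd E E'))

theorem mem_fibre {x : E × E'} : x ∈ fibre X X' ↔ X.π x.1 = X'.π x.2 := Iff.rfl

/-- The antidiagonal copy of the module. -/
def fibreDiag : Subgroup (fibre X X') where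
  carrier := {x | ∃ u, (x : E × E') = (X.ι u, X'.ι u)}
  one_mem' := ⟨0, by rw [X.ι_zero, X'.ι_zero]; rfl⟩
  mul_mem' := by
    rintro a b ⟨u, hu⟩ ⟨v, hv⟩
    exact ⟨u + v, by rw [Subgroup.coe_mul, hu, hv, X.ι_add, X'.ι_add]; rfl⟩
  inv_mem' := by
    rintro a ⟨u, hu⟩
    refine ⟨u, ?_⟩
    have h2 : u + u = 0 := funext fun k => CharTwo.add_self_eq_zero _
    rw [Subgroup.coe_inv, hu, Prod.inv_mk, inv_eq_iff_mul_eq_one.2, inv_eq_iff_mul_eq_one.2]
    · rw [← X'.ι_add, h2, X'.ι_zero]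
    · rw [← X.ι_add, h2, X.ι_zero]

instance fibreDiag_normal : (fibreDiag X X').Normal := by
  constructor
  rintro n ⟨u, hu⟩ g
  obtain ⟨p, q, hpq⟩ : ∃ p q, Rep (X.π (g : E × E').1) p ∧ Rep (X.π (g : E × E').1)⁻¹ q :=
    ⟨_, _, rep_packList _, rep_packList _⟩
  refine ⟨actFn (cocodeRows p q) u, ?_⟩
  have h' : Rep (X'.π (g : E × E').2) p ∧ Rep (X'.π (g : E × E').2)⁻¹ q := by
    rw [← (mem_fibre X X').1 g.2]; exact hpq
  rw [Subgroup.coe_mul, Subgroup.coe_mul, Subgroup.coe_inv, hu, ← X.conj _ _ _ hpq.1 hpq.2, ← X'.conj _ _ _ h'.1 h'.2]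
  rfl

/-- The Baer sum. -/
abbrev Baer := ↥(fibre X X') ⧸ fibreDiag X X'

/-- The permutation on the Baer sum. -/
def baerPerm : Baer X X' →* Equiv.Perm GolayPt :=
  QuotientGroup.lift _ ((X.π.comp (MonoidHom.fst E E')).comp (fibre X X').subtype) fun x => by
    rintro ⟨u, hu⟩
    show X.π ((x : E × E').1) = 1
    rw [hu]; exact X.π_ι u

theorem ι_pair_mem (u v : Fin 11 → ZMod 2) : ((X.ι u, X'.ι v) : E × E') ∈ fibre X X' := by
  rw [mem_fibre, X.π_ι, X'.π_ι]

/-- The Baer sum as an extension. -/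
def baerExt : Ext (Baer X X') cocodeRows where
  π := baerPerm X X'
  range_π := by
    ext g
    constructor
    · rintro ⟨x, rfl⟩
      obtain ⟨y, rfl⟩ := QuotientGroup.mk'_surjective _ x
      rw [← X.range_π]
      exact ⟨_, rfl⟩
    · intro hg
      obtain ⟨e, he⟩ := X.exists_lift hg
      obtain ⟨e', he'⟩ := X'.exists_lift hg
      exact ⟨QuotientGroup.mk ⟨(e, e'), by rw [mem_fibre, he, he']⟩, he⟩
  ι u := QuotientGroup.mk (⟨(X.ι u, X'.ι 0), ι_pair_mem X X' u 0⟩ : fibre X X')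
  ι_add u v := by
    rw [← QuotientGroup.mk_mul]
    refine congrArg _ (Subtype.ext ?_)
    rw [Subgroup.coe_mul, Prod.mk_mul_mk, ← X.ι_add, ← X'.ι_add, add_zero]
  ι_inj u v h := by
    obtain ⟨w, hw⟩ := QuotientGroup.eq.1 h
    have h1 := congrArg Prod.fst hw
    have h2 := congrArg Prod.snd hw
    change (X.ι u)⁻¹ * X.ι v = X.ι w at h1
    change (X'.ι 0)⁻¹ * X'.ι 0 = X'.ι w at h2
    rw [inv_mul_cancel, ← X'.ι_zero] at h2
    rw [← X'.ι_inj h2, X.ι_zero, inv_mul_eq_one] at h1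
    exact X.ι_inj h1
  ι_range x := by
    constructor
    · intro hx
      obtain ⟨⟨⟨e, e'⟩, hee⟩, rfl⟩ := QuotientGroup.mk'_surjective _ x
      have h1 : X.π e = 1 := hx
      have h2 : X'.π e' = 1 := by rw [← h1]; exact ((mem_fibre X X').1 hee).symm
      obtain ⟨u, hu⟩ := (X.ι_range e).1 h1
      obtain ⟨v, hv⟩ := (X'.ι_range e').1 h2
      refine ⟨u + v, ?_⟩
      show QuotientGroup.mk _ = QuotientGroup.mk _
      rw [QuotientGroup.eq]
      refine ⟨v, ?_⟩
      have h2v : v + v = 0 := funext fun k => CharTwo.add_self_eq_zero _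
      apply Prod.ext
      · show (X.ι (u + v))⁻¹ * e = X.ι v
        rw [inv_mul_eq_iff_eq_mul, ← hu, ← X.ι_add, add_assoc, h2v, add_zero]
      · show (X'.ι 0)⁻¹ * e' = X'.ι v
        rw [X'.ι_zero, inv_one, one_mul, hv]
    · rintro ⟨u, rfl⟩
      exact X.π_ι u
  conj x p q hp hq u := by
    obtain ⟨⟨⟨e, e'⟩, hee⟩, rfl⟩ := QuotientGroup.mk'_surjective _ x
    rw [QuotientGroup.mk'_apply, ← QuotientGroup.mk_inv, ← QuotientGroup.mk_mul, ← QuotientGroup.mk_mul]
    refine congrArg _ (Subtype.ext ?_)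
    apply Prod.ext
    · exact X.conj e p q hp hq u
    · show e' * X'.ι 0 * e'⁻¹ = X'.ι 0
      rw [X'.ι_zero, mul_one, mul_inv_cancel]

theorem baer_rels {b : ℕ → E} {b' : ℕ → E'} {Z Z' : ℕ → Fin 11 → ZMod 2} (hR : Rels X m23Syl b Z)
    (hR' : Rels X' m23Syl b' Z') (c : ℕ → fibre X X') (hc : ∀ i < 7, ((c i : E × E')) = (b i, b' i)) :
    Rels (baerExt X X') m23Syl (fun i => QuotientGroup.mk (c i)) (Z + Z') := by
  refine ⟨fun i hi => ?_, fun i j hij hj => ?_⟩
  · show Rep (X.π (c i : E × E').1) _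
    rw [hc i hi]; exact hR.rep i hi
  · have hw : ∀ w : List ℕ, (∀ k ∈ w, k < 7) →
        ((wordProd c w : fibre X X') : E × E') = (wordProd b w, wordProd b' w) := by
      intro w
      induction w with
      | nil => intro _; rfl
      | cons k w ih =>
        intro hw
        have := ih fun m hm => hw m (List.mem_cons_of_mem _ hm)
        simp only [wordProd, List.map_cons, List.prod_cons, Subgroup.coe_mul] at this ⊢
        rw [this, hc k (hw k (List.mem_cons_self ..))]
        rfl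
    have hmap : wordProd (fun i => (QuotientGroup.mk (c i) : Baer X X')) (rhsWord m23Syl i j) =
        QuotientGroup.mk (wordProd c (rhsWord m23Syl i j)) :=
      (map_wordProd (QuotientGroup.mk' (fibreDiag X X')) c _).symm
    rw [hmap]
    have hw' := hw _ (rhsWord_lt m23Syl_check (j := j) (show i < 7 by omega))
    have e1 := hR.eq i j hij hj
    have e2 := hR'.eq i j hij hj
    have hP : c j * c i = (⟨(X.ι (Z (pairIdx i j)), X'.ι (Z' (pairIdx i j))), ι_pair_mem X X' _ _⟩ : fibre X X') *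
        wordProd c (rhsWord m23Syl i j) := by
      refine Subtype.ext ?_
      rw [Subgroup.coe_mul, Subgroup.coe_mul, hc j hj, hc i (by omega), hw', Prod.mk_mul_mk, Prod.mk_mul_mk, e1, e2]
    show QuotientGroup.mk (c j) * QuotientGroup.mk (c i) = _
    rw [← QuotientGroup.mk_mul, hP, QuotientGroup.mk_mul]
    refine congrArg (fun a => a * QuotientGroup.mk (wordProd c (rhsWord m23Syl i j))) ?_
    show QuotientGroup.mk _ = QuotientGroup.mk _
    rw [QuotientGroup.eq]
    refine ⟨Z' (pairIdx i j), ?_⟩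
    have hneg : ∀ u : Fin 11 → ZMod 2, u + u = 0 := fun u => funext fun k => CharTwo.add_self_eq_zero _
    apply Prod.ext
    · show (X.ι (Z (pairIdx i j)))⁻¹ * X.ι ((Z + Z') (pairIdx i j)) = X.ι (Z' (pairIdx i j))
      rw [inv_mul_eq_iff_eq_mul, ← X.ι_add, Pi.add_apply]
    · show (X'.ι (Z' (pairIdx i j)))⁻¹ * X'.ι 0 = X'.ι (Z' (pairIdx i j))
      rw [inv_mul_eq_iff_eq_mul, ← X'.ι_add, hneg]

variable {X X'}

/-- The map of a preimage of a complement of the Baer sum to a factor is an isomorphism. -/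
theorem cocode_equiv [Finite E] [Finite E']
    (hX : ∀ H : Subgroup E, H ⊓ X.π.ker = ⊥ → H ⊔ X.π.ker ≠ ⊤)
    (hX' : ∀ H : Subgroup E', H ⊓ X'.π.ker = ⊥ → H ⊔ X'.π.ker ≠ ⊤) : Nonempty (E ≃* E') := by
  obtain ⟨b, hb⟩ := exists_lifts (X := X) m23Syl_check
  obtain ⟨b', hb'⟩ := exists_lifts (X := X') m23Syl_check
  obtain ⟨Z, hR⟩ := exists_rels (X := X) m23Syl_check hb
  obtain ⟨Z', hR'⟩ := exists_rels (X := X') m23Syl_check hb'
  have one_of_ne : ∀ a : ZMod 2, a ≠ 0 → a = 1 := by decide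
  have h1 : phiVal cocodeCert Z = 1 := one_of_ne _ fun h => by
    obtain ⟨H, hH, hH'⟩ :=
      complement_of_phi m23Syl_check m23Syl_nf cocode_rows cocode_close cocode_eqs cocode_split hR h
    exact hX H hH hH'
  have h2 : phiVal cocodeCert Z' = 1 := one_of_ne _ fun h => by
    obtain ⟨H, hH, hH'⟩ :=
      complement_of_phi m23Syl_check m23Syl_nf cocode_rows cocode_close cocode_eqs cocode_split hR' h
    exact hX' H hH hH'
  let c : ℕ → fibre X X' := fun i => if h : i < 7 then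
    ⟨(b i, b' i), by rw [mem_fibre]; exact (hb i h).ext (hb' i h)⟩ else 1
  have hRD := baer_rels X X' hR hR' c fun i hi => by simp [c, hi]
  have hsum : phiVal cocodeCert (Z + Z') = 0 := by
    have e : zOf (Z + Z') = fun k => zOf Z k + zOf Z' k := rfl
    rw [phiVal, e, feval_add_left]
    show phiVal cocodeCert Z + phiVal cocodeCert Z' = 0
    rw [h1, h2]
    exact CharTwo.add_self_eq_zero _
  haveI : Finite (Baer X X') := Quotient.finite _
  obtain ⟨K, hK, hK'⟩ := complement_of_phi (X := baerExt X X') m23Syl_check m23Syl_nf cocode_rows cocode_close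
    cocode_eqs cocode_split hRD hsum
  set K' : Subgroup (fibre X X') := K.comap (QuotientGroup.mk' (fibreDiag X X')) with hK'def
  have hM : ∀ u, (⟨(X.ι u, X'.ι u), ι_pair_mem X X' u u⟩ : fibre X X') ∈ K' := fun u => by
    show QuotientGroup.mk' _ _ ∈ K
    rw [QuotientGroup.mk'_apply, (QuotientGroup.eq_one_iff _).2 (show _ ∈ fibreDiag X X' from ⟨u, rfl⟩)]
    exact one_mem K
  have hcov : ∀ x : fibre X X', ∃ k ∈ K', ∃ u, k * (⟨(X.ι u, X'.ι 0), ι_pair_mem X X' u 0⟩ : fibre X X') = x := by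
    intro x
    haveI : (baerExt X X').π.ker.Normal := MonoidHom.normal_ker _
    obtain ⟨y, hy, n, hn, hyn⟩ := Subgroup.mem_sup_of_normal_right.1
      (hK'.symm ▸ Subgroup.mem_top (QuotientGroup.mk x : Baer X X'))
    obtain ⟨u, rfl⟩ := ((baerExt X X').ι_range n).1 hn
    refine ⟨x * (⟨(X.ι u, X'.ι 0), ι_pair_mem X X' u 0⟩ : fibre X X')⁻¹, ?_, u, inv_mul_cancel_right _ _⟩
    show QuotientGroup.mk' _ _ ∈ K
    rw [map_mul, map_inv, QuotientGroup.mk'_apply, ← hyn]
    show y * _ * _⁻¹ ∈ K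
    rw [QuotientGroup.mk'_apply]
    exact (mul_inv_cancel_right y _).symm ▸ hy
  have hzero : ∀ x ∈ K', baerPerm X X' (QuotientGroup.mk x) = 1 → x ∈ fibreDiag X X' := fun x hx h1 => by
    have : QuotientGroup.mk' _ x ∈ K ⊓ (baerExt X X').π.ker := ⟨hx, h1⟩
    rw [hK, Subgroup.mem_bot, QuotientGroup.mk'_apply, QuotientGroup.eq_one_iff] at this
    exact this
  let f1 : ↥K' →* E := (MonoidHom.fst E E').comp ((fibre X X').subtype.comp K'.subtype)
  let f2 : ↥K' →* E' := (MonoidHom.snd E E').comp ((fibre X X').subtype.comp K'.subtype)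
  have b1 : Function.Bijective f1 := by
    refine ⟨(injective_iff_map_eq_one f1).2 fun k hk => ?_, fun e => ?_⟩
    · have hk1 : ((k : fibre X X') : E × E').1 = 1 := hk
      obtain ⟨u, hu⟩ := hzero k k.2 (show X.π ((k : fibre X X') : E × E').1 = 1 by rw [hk1, map_one])
      have hu0 : u = 0 := X.ι_inj (by rw [X.ι_zero, ← hk1, hu])
      subst hu0
      refine Subtype.ext (Subtype.ext ?_)
      rw [hu, X.ι_zero, X'.ι_zero]; rfl
    · obtain ⟨e', he'⟩ := X'.exists_lift (g := X.π e) (X.range_π ▸ ⟨e, rfl⟩)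
      obtain ⟨k, hk, u, hku⟩ := hcov ⟨(e, e'), by rw [mem_fibre, he']⟩
      refine ⟨⟨k, hk⟩ * ⟨_, hM u⟩, ?_⟩
      have := congrArg (fun z : fibre X X' => (z : E × E').1) hku
      exact this
  have b2 : Function.Bijective f2 := by
    refine ⟨(injective_iff_map_eq_one f2).2 fun k hk => ?_, fun e' => ?_⟩
    · have hk1 : ((k : fibre X X') : E × E').2 = 1 := hk
      have hπ1 : X.π ((k : fibre X X') : E × E').1 = 1 := by
        rw [(mem_fibre X X').1 (k : fibre X X').2, hk1, map_one]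
      obtain ⟨u, hu⟩ := hzero k k.2 hπ1
      have hu0 : u = 0 := X'.ι_inj (by rw [X'.ι_zero, ← hk1, hu])
      subst hu0
      refine Subtype.ext (Subtype.ext ?_)
      rw [hu, X.ι_zero, X'.ι_zero]; rfl
    · obtain ⟨e, he⟩ := X.exists_lift (g := X'.π e') (X'.range_π ▸ ⟨e', rfl⟩)
      obtain ⟨k, hk, u, hku⟩ := hcov ⟨(e, e'), by rw [mem_fibre, he]⟩
      refine ⟨⟨k, hk⟩, ?_⟩
      have := congrArg (fun z : fibre X X' => (z : E × E').2) hku
      change ((k : E × E').2) * X'.ι 0 = e' at this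
      rwa [X'.ι_zero, mul_one] at this
  exact ⟨(MulEquiv.ofBijective f1 b1).symm.trans (MulEquiv.ofBijective f2 b2)⟩

end Cfsg.Lib.Concrete.M23Ext
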