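import Cfsg.Agent.Lib.Concrete.M23Ext.Rows

/-!
Extensions of M23 by the code module and by the cocode module, in coordinates.
-/

set_option autoImplicit false

namespace Cfsg.Lib.Concrete.M23Ext

open Finset

/-- The points of the unit coordinates. -/
def mpt (i : Fin 11) : GolayPt := gpt (Fin.ofNat 24 (modIdx.getD i.val 0))

/-- The basis words. -/
def mword (i : Fin 11) : GolayPt → ZMod 2 := word (modWords.getD i.val 0)

theorem mword_none : ∀ i, mword i none = 0 := by decide +kernel

theorem mword_mpt : ∀ i j, mword i (mpt j) = if i = j then 1 else 0 := by decide +kernel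

theorem gidx_mpt : ∀ j : Fin 11, (gidx (mpt j)).val = modIdx.getD j.val 0 := by decide +kernel

theorem mword_mem (i : Fin 11) : mword i ∈ golayCode := by
  have h : ∀ i : Fin 11, ∃ c < 4096, combo c = modWords.getD i.val 0 := by
    have : ∀ i : Fin 11, combo (modWords.getD i.val 0 &&& 4095) = modWords.getD i.val 0 := by decide +kernel
    exact fun i => ⟨_, Nat.lt_succ_of_le Nat.and_le_right, this i⟩
  obtain ⟨c, hc, he⟩ := h i
  exact mem_golayCode_iff.2 ⟨c, hc, congrArg word he⟩

theorem testBit_orList (f : ℕ → Bool) (k : ℕ) : ∀ L : List ℕ,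
    (L.foldr (fun i acc => bif f i then Nat.lor (Nat.shiftLeft 1 i) acc else acc) 0).testBit k =
      (decide (k ∈ L) && f k) := by
  intro L
  induction L with
  | nil => simp
  | cons a L ih =>
    rw [List.foldr_cons]
    have hs : (Nat.shiftLeft 1 a).testBit k = decide (a = k) := by
      show (1 <<< a).testBit k = _
      rw [Nat.one_shiftLeft, Nat.testBit_two_pow]
    cases ha : f a
    · rw [cond_false, ih]
      by_cases h : k = a
      · subst h; simp [ha]
      · simp [h]
    · rw [cond_true]
      show ((Nat.shiftLeft 1 a) ||| _).testBit k = _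
      rw [Nat.testBit_or, hs, ih]
      by_cases h : k = a
      · subst h; simp [ha]
      · simp [h, Ne.symm h]

theorem testBit_rowOf_fun (f : ℕ → Bool) {k : ℕ} (hk : k < 11) : (rowOf f).testBit k = f k := by
  rw [rowOf, testBit_orList, decide_eq_true (List.mem_range.2 hk), Bool.true_and]

/-- The word with given coordinates. -/
def codeVec (u : Fin 11 → ZMod 2) : GolayPt → ZMod 2 := fun x => ∑ i, u i * mword i x

theorem codeVec_add (u v : Fin 11 → ZMod 2) : codeVec (u + v) = codeVec u + codeVec v := by
  funext x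
  simp only [codeVec, Pi.add_apply, add_mul, sum_add_distrib]

theorem codeVec_mem (u : Fin 11 → ZMod 2) : codeVec u ∈ golayCode ∧ codeVec u none = 0 := by
  constructor
  · have : codeVec u = ∑ i, u i • mword i := by
      funext x; simp [codeVec, Finset.sum_apply]
    rw [this]
    exact Submodule.sum_mem _ fun i _ => Submodule.smul_mem _ _ (mword_mem i)
  · simp [codeVec, mword_none]

theorem codeVec_mpt (u : Fin 11 → ZMod 2) (j : Fin 11) : codeVec u (mpt j) = u j := by
  simp [codeVec, mword_mpt]

theorem code_eq_zero_check : (List.range 4096).all (fun c =>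
    Nat.testBit (combo c) 23 || (List.range 11).any (fun j => Nat.testBit (combo c) (modIdx.getD j 0)) ||
      Nat.beq (combo c) 0) = true := by
  decide +kernel

theorem code_eq_zero {c : ℕ} (hc : c < 4096) (h23 : (combo c).testBit 23 = false)
    (hj : ∀ j : Fin 11, (combo c).testBit (modIdx.getD j.val 0) = false) : combo c = 0 := by
  have h := List.all_eq_true.1 code_eq_zero_check c (List.mem_range.2 hc)
  simp only [Bool.or_eq_true, h23, Bool.false_eq_true, false_or, List.any_eq_true, List.mem_range, Nat.beq_eq] at h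
  rcases h with ⟨j, hj', h⟩ | h
  · rw [hj ⟨j, hj'⟩] at h
    exact absurd h Bool.false_ne_true
  · exact h

theorem gidx_none : (gidx none).val = 23 := rfl

theorem eq_codeVec {w : GolayPt → ZMod 2} (hw : w ∈ golayCode) (h0 : w none = 0) :
    codeVec (fun j => w (mpt j)) = w := by
  have hd : codeVec (fun j => w (mpt j)) + w ∈ golayCode := add_mem (codeVec_mem _).1 hw
  obtain ⟨c, hc, he⟩ := mem_golayCode_iff.1 hd
  have hb : ∀ x, (codeVec (fun j => w (mpt j)) + w) x = 0 → (combo c).testBit (gidx x).val = false := fun x hx => by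
    rw [← he] at hx
    simp only [word] at hx
    cases hb : (combo c).testBit (gidx x).val
    · rfl
    · simp [hb] at hx
  have hz : combo c = 0 := by
    refine code_eq_zero hc ?_ fun j => ?_
    · rw [← gidx_none]; exact hb none (by simp [Pi.add_apply, (codeVec_mem _).2, h0])
    · rw [← gidx_mpt j]; exact hb _ (by simp [Pi.add_apply, codeVec_mpt, CharTwo.add_self_eq_zero])
  funext x
  have := congrFun he x
  rw [hz] at this
  have h2 : codeVec (fun j => w (mpt j)) x + w x = 0 := by simpa [word] using this.symm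
  exact CharTwo.add_eq_zero.1 h2

theorem actFn_code {σ : Equiv.Perm GolayPt} {p q : ℕ} (hq : Rep σ⁻¹ q) (u : Fin 11 → ZMod 2) (j : Fin 11) :
    codeVec u (σ⁻¹ (mpt j)) = actFn (codeRows p q) u j := by
  simp only [codeVec, actFn, codeRows, getD_map_range _ j.isLt]
  refine sum_congr rfl fun i _ => ?_
  rw [testBit_rowOf_fun _ i.isLt]
  simp only [mword, word, hq (mpt j), gidx_mpt]
  split <;> simp

variable {E : Type*} [Group E] (N : Subgroup E) [hN : N.Normal] (φ : E ⧸ N ≃* Spor.M23)

/-- The permutation of an element. -/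
def extPerm : E →* Equiv.Perm GolayPt :=
  Spor.M23.subtype.comp (φ.toMonoidHom.comp (QuotientGroup.mk' N))

theorem extPerm_range : (extPerm N φ).range = Spor.M23 := by
  ext x
  constructor
  · rintro ⟨g, rfl⟩; exact SetLike.coe_mem _
  · intro hx
    obtain ⟨g, hg⟩ := QuotientGroup.mk'_surjective N (φ.symm ⟨x, hx⟩)
    exact ⟨g, by simp only [extPerm, MonoidHom.comp_apply, hg]; simp⟩

theorem extPerm_eq_one {x : E} : extPerm N φ x = 1 ↔ x ∈ N := by
  show ((φ (QuotientGroup.mk x) : Spor.M23) : Equiv.Perm GolayPt) = 1 ↔ _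
  rw [OneMemClass.coe_eq_one, MulEquiv.map_eq_one_iff, QuotientGroup.eq_one_iff]

theorem extPerm_ker : (extPerm N φ).ker = N := by
  ext x; rw [MonoidHom.mem_ker, extPerm_eq_one]

theorem extPerm_none (g : E) : (extPerm N φ g)⁻¹ none = none := by
  have h : extPerm N φ g ∈ Spor.M23 := SetLike.coe_mem _
  rw [Equiv.Perm.inv_def, Equiv.symm_apply_eq]
  exact h.2.symm

/-- An extension by the code module, in coordinates. -/
theorem exists_codeExt (ψ : Additive N →+ (GolayPt → ZMod 2)) (hinj : Function.Injective ψ)
    (hrange : ∀ w : GolayPt → ZMod 2, w ∈ Set.range ψ ↔ (w ∈ golayCode ∧ w none = 0))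
    (hψ : ∀ (g : E) (n : N), ψ (Additive.ofMul ⟨g * n * g⁻¹, hN.conj_mem n n.2 g⟩)
      = ψ (Additive.ofMul n) ∘ ⇑((extPerm N φ g)⁻¹)) :
    ∃ X : Ext E codeRows, X.π = extPerm N φ := by
  have hex : ∀ u, ∃ n : Additive N, ψ n = codeVec u := fun u => (hrange _).2 (codeVec_mem u)
  choose f hf using hex
  refine ⟨{ π := extPerm N φ, range_π := extPerm_range N φ, ι := fun u => ((f u).toMul : E)
            ι_add := ?_, ι_inj := ?_, ι_range := ?_, conj := ?_ }, rfl⟩
  · intro u v
    have : f (u + v) = f u + f v := hinj (by rw [map_add, hf, hf, hf, codeVec_add])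
    rw [this]; rfl
  · intro u v h
    have h' : f u = f v := Additive.toMul.injective (Subtype.ext h)
    funext j
    rw [← codeVec_mpt u j, ← codeVec_mpt v j, ← hf, ← hf, h']
  · intro x
    rw [extPerm_eq_one]
    constructor
    · intro hx
      obtain ⟨hc, h0⟩ := (hrange (ψ (Additive.ofMul ⟨x, hx⟩))).1 ⟨_, rfl⟩
      refine ⟨fun j => ψ (Additive.ofMul ⟨x, hx⟩) (mpt j), ?_⟩
      have : f (fun j => ψ (Additive.ofMul ⟨x, hx⟩) (mpt j)) = Additive.ofMul ⟨x, hx⟩ :=
        hinj (by rw [hf, eq_codeVec hc h0])
      rw [this]; rfl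
    · rintro ⟨u, rfl⟩; exact SetLike.coe_mem _
  · intro g p q _ hq u
    have hg := hψ g (f u).toMul
    rw [ofMul_toMul, hf] at hg
    have : Additive.ofMul (⟨g * ((f u).toMul : E) * g⁻¹, hN.conj_mem _ (SetLike.coe_mem _) g⟩ : N) =
        f (actFn (codeRows p q) u) := by
      apply hinj
      rw [hg, hf]
      obtain ⟨hc, h0⟩ := (hrange (codeVec u ∘ ⇑((extPerm N φ g)⁻¹))).1 ⟨_, hg⟩
      rw [← eq_codeVec hc h0]
      congr 1
      funext j
      exact actFn_code (p := p) hq u j
    rw [← this]; rfl

/-- The vector supported on the unit coordinates. -/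
def unitVec (u : Fin 11 → ZMod 2) : GolayPt → ZMod 2 := fun x => ∑ i, if x = mpt i then u i else 0

/-- The cocode coordinates. -/
def cocoord (w : GolayPt → ZMod 2) (j : Fin 11) : ZMod 2 := ∑ x, mword j x * w x

theorem unitVec_add (u v : Fin 11 → ZMod 2) : unitVec (u + v) = unitVec u + unitVec v := by
  funext x
  simp only [unitVec, Pi.add_apply, ← sum_add_distrib]
  exact sum_congr rfl fun i _ => by split <;> simp

theorem cocoord_unitVec (u : Fin 11 → ZMod 2) : cocoord (unitVec u) = u := by
  funext j
  simp only [cocoord, unitVec, mul_sum]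
  rw [sum_comm]
  simp [mword_mpt, eq_comm]

/-- Coordinates as a linear map. -/
def cocoordHom : (GolayPt → ZMod 2) →ₗ[ZMod 2] (Fin 11 → ZMod 2) where
  toFun := cocoord
  map_add' v w := by funext j; simp [cocoord, mul_add, sum_add_distrib]
  map_smul' a w := by
    funext j
    simp only [cocoord, Pi.smul_apply, smul_eq_mul, RingHom.id_apply, mul_sum]
    exact sum_congr rfl fun x _ => by ring

theorem cocoord_gens : ∀ (t : Fin 24) (j : Fin 11),
    cocoord (word (genMasks.getD t.val 0)) j = 0 := by
  decide +kernel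

seal cocoord in
theorem cocoord_code {w : GolayPt → ZMod 2} (hw : w ∈ golayCode) : cocoord w = 0 := by
  have h1 : ∀ (t : ZMod 23) (j : Fin 11), cocoord (qrWord t) j = 0 := by
    intro t j
    rw [qrWord_eq_word]
    exact cocoord_gens ⟨t.val, Nat.lt_succ_of_lt (ZMod.val_lt t)⟩ j
  have h2 : ∀ j : Fin 11, cocoord 1 j = 0 := fun j => by
    rw [one_eq_word]
    exact cocoord_gens ⟨23, by norm_num⟩ j
  have : golayCode ≤ LinearMap.ker cocoordHom := by
    rw [golayCode, Submodule.span_le]
    rintro v (⟨t, rfl⟩ | rfl)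
    · exact LinearMap.mem_ker.2 (funext fun j => h1 t j)
    · exact LinearMap.mem_ker.2 (funext h2)
  exact LinearMap.mem_ker.1 (this hw)

theorem cocoord_none : cocoord (Pi.single (none : GolayPt) 1) = 0 := by
  funext j
  simp [cocoord, Pi.single_apply, mword_none]

/-- The code together with its translate. -/
def codeOrShift (w : GolayPt → ZMod 2) : Prop :=
  w ∈ golayCode ∨ w + Pi.single (none : GolayPt) 1 ∈ golayCode

theorem cocoord_eq_zero {w : GolayPt → ZMod 2} (h : codeOrShift w) : cocoord w = 0 := by
  rcases h with h | h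
  · exact cocoord_code h
  · have h' := cocoord_code h
    have e := cocoordHom.map_add w (Pi.single (none : GolayPt) 1)
    change cocoord (w + _) = cocoord w + cocoord _ at e
    rw [h', cocoord_none, add_zero] at e
    exact e.symm

/-- The mask of a point corrected by its coordinates. -/
def fixMaskOf (x : GolayPt) : ℕ :=
  Nat.xor (Nat.shiftLeft 1 (gidx x).val) ((List.range 11).foldr
    (fun i acc => bif Nat.testBit (modWords.getD i 0) (gidx x).val
      then Nat.xor (Nat.shiftLeft 1 (modIdx.getD i 0)) acc else acc) 0)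

theorem fixMask_word : ∀ x y : GolayPt,
    word (fixMaskOf x) y = (if y = x then 1 else 0) + unitVec (cocoord (Pi.single x 1)) y := by
  have h : ∀ x y : GolayPt, word (fixMaskOf x) y =
      (if y = x then 1 else 0) + ∑ i, if y = mpt i then mword i x else 0 := by decide +kernel
  intro x y
  rw [h]
  simp [unitVec, cocoord, Pi.single_apply]

theorem fixMask_code : ∀ x : GolayPt, (isCode (fixMaskOf x) || isCode (fixMaskOf x ^^^ 2 ^ 23)) = true := by
  decide +kernel

theorem isCode_word_mem {m : ℕ} (h : isCode m = true) : word m ∈ golayCode := by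
  rw [isCode, beq_iff_eq] at h
  exact mem_golayCode_iff.2 ⟨m &&& 4095, Nat.lt_succ_of_le Nat.and_le_right, congrArg word h⟩

theorem word_two_pow_none : word (2 ^ 23) = Pi.single (none : GolayPt) 1 := by decide +kernel

/-- An extension by the cocode module, in coordinates. -/
theorem exists_cocodeExt (θ : (GolayPt → ZMod 2) →+ Additive N) (hsurj : Function.Surjective θ)
    (hker : ∀ w : GolayPt → ZMod 2, θ w = 0 ↔ (w ∈ golayCode ∨ w + Pi.single none 1 ∈ golayCode))
    (hθ : ∀ (g : E) (w : GolayPt → ZMod 2),
      ((θ (w ∘ ⇑((extPerm N φ g)⁻¹))).toMul : E) = g * ((θ w).toMul : E) * g⁻¹) :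
    ∃ X : Ext E cocodeRows, X.π = extPerm N φ ∧ ∀ u, X.ι u = ((θ (unitVec u)).toMul : E) := by
  have hcadd : ∀ v w, cocoord (v + w) = cocoord v + cocoord w := cocoordHom.map_add
  have hsingle : ∀ (x : GolayPt) (a : ZMod 2), θ (Pi.single x a) = θ (unitVec (cocoord (Pi.single x a))) := by
    intro x a
    have ha : a = 0 ∨ a = 1 := (by decide : ∀ a : ZMod 2, a = 0 ∨ a = 1) a
    rcases ha with rfl | rfl
    · rw [Pi.single_zero, show cocoord 0 = 0 from cocoordHom.map_zero]
      congr 1
      funext y; simp [unitVec]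
    · set d := Pi.single x 1 + unitVec (cocoord (Pi.single x 1)) with hd
      have e : word (fixMaskOf x) = d := by
        funext y
        rw [fixMask_word, hd, Pi.add_apply, Pi.single_apply]
      have h0 : θ d = 0 := by
        rw [hker]
        have h := fixMask_code x
        rw [Bool.or_eq_true] at h
        rcases h with h | h
        · exact Or.inl (e ▸ isCode_word_mem h)
        · refine Or.inr ?_
          rw [← word_two_pow_none, ← e, ← word_xor]
          exact isCode_word_mem h
      have e2 : Pi.single x (1 : ZMod 2) = d + unitVec (cocoord (Pi.single x 1)) := by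
        funext y
        simp [hd, add_assoc, CharTwo.add_self_eq_zero]
      conv_lhs => rw [e2, map_add, h0, zero_add]
  have hred : ∀ w, θ w = θ (unitVec (cocoord w)) := by
    intro w
    rw [← Finset.univ_sum_single w]
    refine Finset.sum_induction _ (fun v => θ v = θ (unitVec (cocoord v))) (fun v v' hv hv' => ?_) ?_
      fun x _ => hsingle x _
    · rw [map_add, hv, hv', hcadd, unitVec_add, map_add]
    · have := hsingle none 0
      rwa [Pi.single_zero] at this
  refine ⟨{ π := extPerm N φ, range_π := extPerm_range N φ, ι := fun u => ((θ (unitVec u)).toMul : E)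
            ι_add := ?_, ι_inj := ?_, ι_range := ?_, conj := ?_ }, rfl, fun u => rfl⟩
  · intro u v
    rw [unitVec_add, map_add]; rfl
  · intro u v h
    have h' : θ (unitVec u) = θ (unitVec v) := Additive.toMul.injective (Subtype.ext h)
    have h0 : θ (unitVec u + unitVec v) = 0 := by
      rw [map_add, h', ← map_add]
      have : unitVec v + unitVec v = 0 := funext fun x => CharTwo.add_self_eq_zero _
      rw [this, map_zero]
    have := cocoord_eq_zero ((hker _).1 h0)
    rw [← unitVec_add, cocoord_unitVec] at this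
    funext j
    exact CharTwo.add_eq_zero.1 (congrFun this j)
  · intro x
    rw [extPerm_eq_one]
    constructor
    · intro hx
      obtain ⟨w, hw⟩ := hsurj (Additive.ofMul ⟨x, hx⟩)
      refine ⟨cocoord w, ?_⟩
      rw [← hred, hw]; rfl
    · rintro ⟨u, rfl⟩; exact SetLike.coe_mem _
  · intro g p q hp _ u
    rw [← hθ, hred (unitVec u ∘ _)]
    refine congrArg (fun v => ((θ (unitVec v)).toMul : E)) ?_
    funext j
    simp only [cocoord, Function.comp_apply, actFn, cocodeRows, getD_map_range _ j.isLt]
    rw [← Equiv.sum_comp (extPerm N φ g)]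
    simp only [Equiv.Perm.inv_def, Equiv.symm_apply_apply, unitVec, mul_sum]
    rw [sum_comm]
    refine sum_congr rfl fun i _ => ?_
    rw [testBit_rowOf_fun _ i.isLt, Finset.sum_eq_single (mpt i)]
    · rw [if_pos rfl, mword, word, hp (mpt i), gidx_mpt]
      split <;> simp
    · intro b _ hb; simp [if_neg hb]
    · intro h; exact absurd (Finset.mem_univ _) h

end Cfsg.Lib.Concrete.M23Ext
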