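import Mathlib

/-!
Coefficients of a factor set of the Parker loop, and the parity table of twelve bits.
-/

set_option autoImplicit false

namespace Cfsg.Lib.Concrete.M23Ext

/-- Coefficients of the factor set. -/
def parkerRows : List ℕ := [
  0, 1824, 840, 1408, 3392, 448, 256, 2304, 3840, 2048, 0, 0,
  1824, 0, 2600, 1072, 352, 4064, 640, 3072, 2048, 0, 0, 0,
  840, 2600, 0, 1536, 1632, 768, 2560, 3840, 512, 3584, 0, 0,
  1412, 1076, 1536, 0, 1216, 3328, 1792, 3072, 1024, 3072, 3072, 0,
  3392, 360, 1632, 1216, 0, 2112, 4032, 2560, 512, 0, 0, 0,
  450, 4060, 784, 3328, 2112, 0, 1024, 2560, 0, 1024, 0, 0,
  308, 688, 2576, 1808, 4000, 1024, 0, 2304, 0, 0, 2048, 0,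
  2344, 3168, 3840, 3088, 2624, 2560, 2304, 0, 2048, 2048, 2048, 2048,
  3838, 2096, 672, 1120, 576, 0, 128, 2048, 0, 1024, 2048, 0,
  2310, 100, 3576, 3136, 448, 1152, 0, 2048, 1024, 0, 0, 0,
  282, 168, 664, 3056, 64, 576, 2048, 2048, 2560, 0, 0, 0,
  912, 420, 704, 1696, 224, 128, 1152, 1792, 1024, 0, 0, 0]

/-- Parities. -/
def parTab : ℕ := 430762406827734748662097811764463038952116329232667268345203501656697990747589585267752380977483092612093359287707331958523049115438554099597118701065028111522686557458239369425031370718923896255598407151672983228498787744759146192508024693550098779364218178901904949478413814501382336475533680075066436862214773212814274246204852137410622318414191054419174773538067051561176027742095104611534457269979341104744462222794708013847602227839468474242829309119746064668710291717295179655948344694596083185481422607268975346972940668216708359379671518826317460379482275074383057915585869126297498686669293495810533243310397846954726951360346457712542887808846582035999619029699625037300004067142734836637860485485399398240765395365016234110316005344683393992050334804896289714918802882473433742266631868211371995140032686290864313295917975223607967873076231122980219269452823000863328210901828433081969464661504607445065524933814185002045805029292135768753370589691201476204713760798613475262042511713249918092112212569908004931734015101549789455916591296249126203483005292101847632484392361909587715983481766030011319110617513322455913181277196524517688061548439494181853220249582114142996432906093435682956233714326210876384175117134230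

end Cfsg.Lib.Concrete.M23Ext
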