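import Cfsg.Agent.Lib.Concrete.M23Ext.Module
import Cfsg.Agent.Lib.Concrete.M23Ext.ParkerData

/-!
A factor set of the Parker loop, and its invariance up to coboundaries under M23.
-/

set_option autoImplicit false

namespace Cfsg.Lib.Concrete.M23Ext.Parker

open Finset
open scoped Pointwise

/-- Coordinates of code words. -/
abbrev V := Fin 12 → ZMod 2

/-- A Boolean as an element of the field with two elements. -/
def b2 (b : Bool) : ZMod 2 := bif b then 1 else 0

theorem b2_xor : ∀ a b : Bool, b2 (Bool.xor a b) = b2 a + b2 b := by decide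
theorem b2_and : ∀ a b : Bool, b2 (a && b) = b2 a * b2 b := by decide
theorem b2_eq : ∀ a : ZMod 2, a = 0 ∨ a = 1 := by decide
theorem add_self (u : V) : u + u = 0 := funext fun i => CharTwo.add_self_eq_zero _

/-- The coefficient. -/
def coef (k i j : Fin 12) : ZMod 2 := b2 (Nat.testBit (parkerRows.getD (12 * k.val + i.val) 0) j.val)

/-- The quadratic function of a coordinate. -/
def qf (k : Fin 12) (u : V) : ZMod 2 := ∑ i, u i * ∑ j, coef k i j * u j

/-- The factor set. -/
def fac (u v : V) : ZMod 2 := ∑ k, v k * qf k u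

/-- The polarised coefficient. -/
def pol (k i j : Fin 12) : ZMod 2 := coef k i j + coef k j i

/-- The associator. -/
def assoc (u v w : V) : ZMod 2 := ∑ k, w k * ∑ i, ∑ j, pol k i j * (u i * v j)

theorem fac_add_right (u v w : V) : fac u (v + w) = fac u v + fac u w := by
  simp only [fac, Pi.add_apply, add_mul, sum_add_distrib]

theorem qf_add (k : Fin 12) (u v : V) :
    qf k (u + v) = qf k u + qf k v + ∑ i, ∑ j, pol k i j * (u i * v j) := by
  have h : ∑ i, ∑ j, coef k j i * (u i * v j) = ∑ i, v i * ∑ j, coef k i j * u j := by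
    rw [sum_comm]
    refine sum_congr rfl fun i _ => ?_
    rw [mul_sum]
    exact sum_congr rfl fun j _ => by ring
  have h2 : ∑ i, ∑ j, coef k i j * (u i * v j) = ∑ i, u i * ∑ j, coef k i j * v j := by
    refine sum_congr rfl fun i _ => ?_
    rw [mul_sum]
    exact sum_congr rfl fun j _ => by ring
  simp only [pol, add_mul, sum_add_distrib, h, h2]
  simp only [qf, Pi.add_apply, add_mul, mul_add, sum_add_distrib]
  ring

theorem fac_add_left (u v w : V) : fac (u + v) w = fac u w + fac v w + assoc u v w := by
  simp only [fac, assoc, qf_add, mul_add, sum_add_distrib]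

/-- The word with given coordinates. -/
def bword (i : Fin 12) : GolayPt → ZMod 2 := word (basisMasks.getD i.val 0)

theorem pol_eq : ∀ k i j : Fin 12, pol k i j = ∑ x, bword k x * bword i x * bword j x := by
  decide +kernel

/-- The code word of coordinates. -/
def cw (u : V) : GolayPt → ZMod 2 := fun x => ∑ i, u i * bword i x

/-- The coordinates of a word. -/
def kap (w : GolayPt → ZMod 2) : V := fun i => w (gpt (Fin.ofNat 24 i.val))

theorem assoc_eq (u v w : V) : assoc u v w = ∑ x, cw w x * cw u x * cw v x := by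
  have e : ∀ x, cw w x * cw u x * cw v x =
      ∑ k, ∑ i, ∑ j, w k * ((bword k x * bword i x * bword j x) * (u i * v j)) := by
    intro x
    simp only [cw]
    rw [Finset.sum_mul_sum, Finset.sum_mul]
    refine sum_congr rfl fun k _ => ?_
    rw [Finset.sum_mul]
    refine sum_congr rfl fun i _ => ?_
    rw [mul_sum]
    exact sum_congr rfl fun j _ => by ring
  simp only [assoc, pol_eq, e]
  rw [sum_comm (s := (univ : Finset GolayPt))]
  refine sum_congr rfl fun k _ => ?_
  rw [mul_sum, sum_comm (s := (univ : Finset GolayPt))]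
  refine sum_congr rfl fun i _ => ?_
  rw [mul_sum, sum_comm (s := (univ : Finset GolayPt))]
  refine sum_congr rfl fun j _ => ?_
  rw [sum_mul, mul_sum]

theorem assoc_rot (u v w : V) : assoc u v w = assoc w v u := by
  rw [assoc_eq, assoc_eq]
  exact sum_congr rfl fun x _ => by ring

theorem assoc_self (u w : V) : assoc u u w = 0 := by
  have h := fac_add_left u u w
  rw [add_self, CharTwo.add_self_eq_zero, zero_add] at h
  rw [← h]
  simp [fac, qf]

theorem bword_kap : ∀ i j : Fin 12, bword i (gpt (Fin.ofNat 24 j.val)) = if i = j then 1 else 0 := by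
  decide +kernel

theorem kap_cw (u : V) : kap (cw u) = u := by
  funext j
  simp only [kap, cw, bword_kap]
  simp

theorem kap_add (w w' : GolayPt → ZMod 2) : kap (w + w') = kap w + kap w' := rfl

theorem cw_add (u v : V) : cw (u + v) = cw u + cw v := by
  funext x
  simp only [cw, Pi.add_apply, add_mul, sum_add_distrib]

theorem cw_mem (u : V) : cw u ∈ golayCode := by
  have hb : ∀ i, bword i ∈ golayCode := fun i => isCode_word_mem
    ((by decide +kernel : ∀ i : Fin 12, isCode (basisMasks.getD i.val 0) = true) i)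
  have : cw u = ∑ i, u i • bword i := by funext x; simp [cw, Finset.sum_apply]
  rw [this]
  exact Submodule.sum_mem _ fun i _ => Submodule.smul_mem _ _ (hb i)

theorem cw_kap {w : GolayPt → ZMod 2} (hw : w ∈ golayCode) : cw (kap w) = w := by
  have hd : cw (kap w) + w ∈ golayCode := add_mem (cw_mem _) hw
  obtain ⟨c, hc, he⟩ := mem_golayCode_iff.1 hd
  have h0 : combo c = 0 := by
    have hand := combo_and hc
    have hz : c = 0 := by
      refine Nat.eq_of_testBit_eq fun i => ?_
      rw [Nat.zero_testBit]
      by_cases hi : i < 12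
      · have h1 := congrFun he (gpt (Fin.ofNat 24 i))
        have h2 : kap (cw (kap w)) ⟨i, hi⟩ = kap w ⟨i, hi⟩ := by rw [kap_cw]
        simp only [kap] at h2
        rw [Pi.add_apply, h2, CharTwo.add_self_eq_zero, word, gidx_gpt] at h1
        rw [← hand, Nat.testBit_and]
        cases hb : (combo c).testBit i
        · rfl
        · simp [Fin.val_ofNat, Nat.mod_eq_of_lt (show i < 24 by omega), hb] at h1
      · exact Nat.testBit_lt_two_pow (lt_of_lt_of_le hc (by
          calc 4096 = 2 ^ 12 := rfl
            _ ≤ 2 ^ i := Nat.pow_le_pow_right (by norm_num) (by omega)))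
    subst hz; rfl
  funext x
  have := congrFun he x
  rw [h0] at this
  exact CharTwo.add_eq_zero.1 (by simpa [word] using this.symm)

/-- The action on coordinates. -/
def act (σ : Equiv.Perm GolayPt) (u : V) : V := kap fun x => cw u (σ⁻¹ x)

theorem act_add (σ : Equiv.Perm GolayPt) (u v : V) : act σ (u + v) = act σ u + act σ v := by
  rw [act, cw_add]; rfl

theorem act_zero (σ : Equiv.Perm GolayPt) : act σ 0 = 0 := by
  funext i; simp [act, kap, cw]

theorem smul_code {σ : Equiv.Perm GolayPt} (hσ : σ ∈ M24) {w : GolayPt → ZMod 2} (hw : w ∈ golayCode) :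
    (fun x => w (σ⁻¹ x)) ∈ golayCode := by
  have hs : support₂ w ∈ supports (golayCode : Set (GolayPt → ZMod 2)) := ⟨w, hw, rfl⟩
  obtain ⟨w', hw', he⟩ := mem_M24_iff.1 hσ _ hs
  have : w' = fun x => w (σ⁻¹ x) := by
    funext x
    have h1 : (w' x ≠ 0) ↔ w (σ⁻¹ x) ≠ 0 := by
      have : x ∈ support₂ w' ↔ x ∈ σ • support₂ w := by rw [he]
      simpa [support₂, ← Finset.inv_smul_mem_iff] using this
    rcases b2_eq (w' x) with a | a <;> rcases b2_eq (w (σ⁻¹ x)) with b | b <;> simp_all
  exact this ▸ hw'

theorem cw_act {σ : Equiv.Perm GolayPt} (hσ : σ ∈ M24) (u : V) : cw (act σ u) = fun x => cw u (σ⁻¹ x) :=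
  cw_kap (smul_code hσ (cw_mem u))

theorem act_one (u : V) : act 1 u = u := kap_cw u

theorem act_mul {g h : Equiv.Perm GolayPt} (hh : h ∈ M24) (u : V) : act (g * h) u = act g (act h u) := by
  show kap _ = kap _
  rw [cw_act hh, mul_inv_rev]
  rfl

theorem assoc_act {σ : Equiv.Perm GolayPt} (hσ : σ ∈ M24) (u v w : V) :
    assoc (act σ u) (act σ v) (act σ w) = assoc u v w := by
  simp only [assoc_eq, cw_act hσ]
  exact Equiv.sum_comp (σ⁻¹ : Equiv.Perm GolayPt) (fun x => cw w x * cw u x * cw v x)

/-- The commutator. -/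
def comm (u v : V) : ZMod 2 := fac u v + fac v u

theorem comm_symm (u v : V) : comm u v = comm v u := add_comm _ _

theorem comm_add (u v w : V) : comm (u + v) w = comm u w + comm v w + assoc u v w := by
  simp only [comm, fac_add_left, fac_add_right]
  ring

theorem diag_add (u v : V) : fac (u + v) (u + v) = fac u u + fac v v + comm u v := by
  simp only [comm, fac_add_left, fac_add_right]
  have h1 : assoc u v u = 0 := by
    rw [assoc_eq, ← assoc_self u v, assoc_eq]
    exact sum_congr rfl fun x _ => by ring
  have h2 : assoc u v v = 0 := by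
    rw [assoc_eq, ← assoc_self v u, assoc_eq]
    exact sum_congr rfl fun x _ => by ring
  rw [h1, h2]
  ring

/-- The unit vector. -/
def unit (a : Fin 12) : V := Pi.single a 1

theorem induction {P : V → Prop} (h0 : P 0) (hadd : ∀ u v, P u → P v → P (u + v)) (hu : ∀ a, P (unit a))
    (u : V) : P u := by
  rw [← Finset.univ_sum_single u]
  refine Finset.sum_induction _ P hadd h0 fun a _ => ?_
  rcases b2_eq (u a) with h | h <;> rw [h]
  · simpa using h0
  · exact hu a

/-- Preservation of the commutator and the diagonal of the factor set. -/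
def Good (σ : Equiv.Perm GolayPt) : Prop :=
  (∀ u v, comm (act σ u) (act σ v) = comm u v) ∧ ∀ u, fac (act σ u) (act σ u) = fac u u

theorem good_of_basis {σ : Equiv.Perm GolayPt} (hσ : σ ∈ M24)
    (hC : ∀ a b, comm (act σ (unit a)) (act σ (unit b)) = comm (unit a) (unit b))
    (hD : ∀ a, fac (act σ (unit a)) (act σ (unit a)) = fac (unit a) (unit a)) : Good σ := by
  have hz : ∀ v, comm 0 v = 0 := fun v => by simp [comm, fac, qf]
  have h1 : ∀ b u, comm (act σ u) (act σ (unit b)) = comm u (unit b) := fun b =>
    induction (by rw [act_zero, hz, hz]) (fun u v hu hv => by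
      rw [act_add, comm_add, comm_add, hu, hv, assoc_act hσ]) fun a => hC a b
  have h2 : ∀ u v, comm (act σ u) (act σ v) = comm u v := by
    intro u v
    revert u
    refine induction (P := fun v => ∀ u, comm (act σ u) (act σ v) = comm u v) ?_ (fun v v' hv hv' u => ?_) h1 v
    · intro u; rw [act_zero, comm_symm, hz, comm_symm, hz]
    · rw [act_add, comm_symm, comm_add, comm_symm (act σ v), comm_symm (act σ v'), hv, hv', assoc_act hσ,
        comm_symm u (v + v'), comm_add, comm_symm v u, comm_symm v' u]
  refine ⟨h2, induction (by rw [act_zero]) (fun u v hu hv => ?_) hD⟩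
  rw [act_add, diag_add, diag_add, hu, hv, h2]

theorem good_one : Good 1 := ⟨fun u v => by rw [act_one, act_one], fun u => by rw [act_one]⟩

theorem good_mul {g h : Equiv.Perm GolayPt} (hh : h ∈ M24) (hg : Good g) (h' : Good h) : Good (g * h) :=
  ⟨fun u v => by rw [act_mul hh, act_mul hh, hg.1, h'.1], fun u => by rw [act_mul hh, hg.2, h'.2]⟩

theorem good_inv {g : Equiv.Perm GolayPt} (hg : g ∈ M24) (h : Good g) : Good g⁻¹ := by
  have e : ∀ u, act g (act g⁻¹ u) = u := fun u => by
    rw [← act_mul (inv_mem hg), mul_inv_cancel, act_one]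
  exact ⟨fun u v => by rw [← h.1 (act g⁻¹ u), e, e], fun u => by rw [← h.2 (act g⁻¹ u), e]⟩

/-- The change of the factor set. -/
def delta (σ : Equiv.Perm GolayPt) (u v : V) : ZMod 2 := fac (act σ u) (act σ v) + fac u v

/-- A function whose coboundary is the change of the factor set. -/
def Cob (σ : Equiv.Perm GolayPt) (f : V → ZMod 2) : Prop := ∀ u v, f (u + v) = f u + f v + delta σ u v

/-- A twisted double of the coordinates. -/
@[ext]
structure Tw (σ : Equiv.Perm GolayPt) where
  a : ZMod 2
  u : V

instance (σ : Equiv.Perm GolayPt) : Add (Tw σ) := ⟨fun x y => ⟨x.a + y.a + delta σ x.u y.u, x.u + y.u⟩⟩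
instance (σ : Equiv.Perm GolayPt) : Zero (Tw σ) := ⟨⟨0, 0⟩⟩
instance (σ : Equiv.Perm GolayPt) : Neg (Tw σ) := ⟨fun x => x⟩

/-- A good permutation has such a function. -/
theorem exists_cob {σ : Equiv.Perm GolayPt} (hσ : σ ∈ M24) (h : Good σ) : ∃ f, Cob σ f := by
  have hsym : ∀ u v, delta σ u v = delta σ v u := fun u v => by
    have e := h.1 u v
    simp only [comm] at e
    simp only [delta]
    linear_combination (norm := ring_nf) e
    simp [CharTwo.two_eq_zero (R := ZMod 2)]
  have hdiag : ∀ u, delta σ u u = 0 := fun u => by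
    rw [delta, h.2]; exact CharTwo.add_self_eq_zero _
  have hzero : ∀ v, delta σ 0 v = 0 := fun v => by
    simp [delta, act_zero, fac, qf]
  have hcoc : ∀ u v w, delta σ v w + delta σ u (v + w) = delta σ u v + delta σ (u + v) w := fun u v w => by
    simp only [delta, act_add, fac_add_left, fac_add_right, assoc_act hσ]
    ring_nf
    simp [CharTwo.two_eq_zero (R := ZMod 2)]
  letI A : AddGroup (Tw σ) := AddGroup.ofLeftAxioms
    (fun x y z => by
      refine Tw.ext ?_ (add_assoc _ _ _)
      show x.a + y.a + delta σ x.u y.u + z.a + delta σ (x.u + y.u) z.u =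
        x.a + (y.a + z.a + delta σ y.u z.u) + delta σ x.u (y.u + z.u)
      linear_combination -(hcoc x.u y.u z.u))
    (fun x => by
      refine Tw.ext ?_ (zero_add _)
      show 0 + x.a + delta σ 0 x.u = x.a
      rw [hzero, zero_add, add_zero])
    (fun x => by
      refine Tw.ext ?_ (add_self _)
      show x.a + x.a + delta σ x.u x.u = 0
      rw [hdiag, CharTwo.add_self_eq_zero, add_zero])
  letI : AddCommGroup (Tw σ) :=
    { A with
      add_comm := fun x y => by
        refine Tw.ext ?_ (add_comm _ _)
        show x.a + y.a + delta σ x.u y.u = y.a + x.a + delta σ y.u x.u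
        rw [hsym, add_comm x.a] }
  letI : Module (ZMod 2) (Tw σ) := AddCommGroup.zmodModule fun x => by
    rw [two_nsmul]
    exact neg_add_cancel x
  let π : Tw σ →+ V := { toFun := Tw.u, map_zero' := rfl, map_add' := fun _ _ => rfl }
  obtain ⟨s, hs⟩ := (π.toZModLinearMap 2).exists_rightInverse_of_surjective
    (LinearMap.range_eq_top.2 fun v => ⟨⟨0, v⟩, rfl⟩)
  refine ⟨fun u => (s u).a, fun u v => ?_⟩
  have h1 : ∀ w, (s w).u = w := fun w => LinearMap.congr_fun hs w
  show (s (u + v)).a = _
  rw [map_add s u v]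
  show (s u).a + (s v).a + delta σ (s u).u (s v).u = _
  rw [h1, h1]

theorem Cob.zero {σ : Equiv.Perm GolayPt} {f : V → ZMod 2} (h : Cob σ f) : f 0 = 0 := by
  have e := h 0 0
  rw [add_zero, CharTwo.add_self_eq_zero, zero_add, delta, act_zero] at e
  rw [e]; simp [fac, qf]

/-- A linear change keeps the coboundary; so the values on the unit vectors can be zero. -/
theorem exists_normal {σ : Equiv.Perm GolayPt} {f : V → ZMod 2} (h : Cob σ f) :
    ∃ g, Cob σ g ∧ ∀ a, g (unit a) = 0 := by
  refine ⟨fun u => f u + ∑ a, u a * f (unit a), fun u v => ?_, fun a => ?_⟩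
  · simp only [h u v, Pi.add_apply, add_mul, sum_add_distrib]
    ring
  · simp [unit, Pi.single_apply, CharTwo.add_self_eq_zero]

end Cfsg.Lib.Concrete.M23Ext.Parker
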