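import Cfsg.Agent.Lib.Concrete.M23Ext.ParkerEval

/-!
Checks on the factor set of the Parker loop.
-/

set_option autoImplicit false
set_option maxRecDepth 100000

namespace Cfsg.Lib.Concrete.M23Ext.Parker

open Finset

/-- The relation values of the normalised lifts, as bits. -/
def zLit : ℕ := 0x4110e800233267aebe3bb8faef2300000366d58000000004cfb7000000e049923301e0c800489

theorem goodN_gens : ((List.range 3).all fun i => goodN (m23Aut.gpi i)) = true := by decide +kernel

theorem zLit_check : zCheck zLit = true := by decide +kernel

theorem zLit_phi : (∑ k ∈ range 308, if cocodeCert.phi.testBit k then b2 (Nat.testBit zLit k) else 0) = 1 := by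
  decide +kernel

theorem bword_orth : ∀ i j : Fin 12, ∑ x, bword i x * bword j x = 0 := by decide +kernel

theorem bword_tail : ∀ x y : GolayPt, 12 ≤ (gidx x).val → 12 ≤ (gidx y).val →
    ∑ i, bword i x * bword i y = if x = y then 1 else 0 := by
  decide +kernel

theorem kap_mword : ∀ (c : Fin 11) (i : Fin 12), kap (mword c) i = vecN (modCoord c.val) i := by
  decide +kernel

end Cfsg.Lib.Concrete.M23Ext.Parker
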