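import Cfsg.Agent.Lib.Concrete.M23Ext.Parker

/-!
Evaluation of the factor set and of lifts on bit masks.
-/

set_option autoImplicit false
set_option maxRecDepth 100000

namespace Cfsg.Lib.Concrete.M23Ext.Parker

open Finset

/-- Coordinates from a mask. -/
def vecN (m : ℕ) : V := fun i => b2 (Nat.testBit m i.val)

/-- The parity of the selected values. -/
def bsum (n : ℕ) (f : ℕ → Bool) : Bool := (List.range n).foldr (fun i acc => Bool.xor (f i) acc) false

theorem b2_foldr (f : ℕ → Bool) : ∀ L : List ℕ,
    b2 (L.foldr (fun i acc => Bool.xor (f i) acc) false) = (L.map fun i => b2 (f i)).sum := by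
  intro L
  induction L with
  | nil => rfl
  | cons a L ih => rw [List.foldr_cons, b2_xor, ih, List.map_cons, List.sum_cons]

theorem b2_bsum (n : ℕ) (f : ℕ → Bool) : b2 (bsum n f) = ∑ i ∈ range n, b2 (f i) := by
  rw [bsum, b2_foldr, ← List.sum_toFinset _ List.nodup_range, List.toFinset_range]

theorem b2_bsum12 (f : ℕ → Bool) : b2 (bsum 12 f) = ∑ i : Fin 12, b2 (f i.val) := by
  rw [b2_bsum, Fin.sum_univ_eq_sum_range (fun i => b2 (f i)) 12]

/-- Twelve bits as a mask. -/
def mk12 (f : ℕ → Bool) : ℕ :=
  (List.range 12).foldr (fun i acc => bif f i then Nat.lor (Nat.shiftLeft 1 i) acc else acc) 0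

theorem testBit_mk12 (f : ℕ → Bool) (k : ℕ) : (mk12 f).testBit k = (decide (k < 12) && f k) := by
  rw [mk12, testBit_orList]
  congr 1
  simp [List.mem_range]

theorem parTab_check : (List.range 4096).all (fun x => parTab.testBit x == bsum 12 (fun j => x.testBit j)) = true := by
  decide +kernel

theorem rows_lt : parkerRows.all (fun r => Nat.blt r 4096) = true := by decide +kernel

/-- The parity of the common bits with a coefficient row. -/
def rowPar (u k i : ℕ) : Bool := Nat.testBit parTab (Nat.land u (parkerRows.getD (12 * k + i) 0))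

theorem b2_rowPar (u : ℕ) (k i : Fin 12) : b2 (rowPar u k.val i.val) = ∑ j, coef k i j * vecN u j := by
  have hr : parkerRows.getD (12 * k.val + i.val) 0 < 4096 := by
    rcases Nat.lt_or_ge (12 * k.val + i.val) parkerRows.length with h | h
    · rw [List.getD_eq_getElem parkerRows 0 h]
      simpa using List.all_eq_true.1 rows_lt _ (List.getElem_mem h)
    · rw [List.getD_eq_default parkerRows 0 h]; norm_num
  have hlt : u &&& parkerRows.getD (12 * k.val + i.val) 0 < 4096 := lt_of_le_of_lt Nat.and_le_right hr
  have h := List.all_eq_true.1 parTab_check _ (List.mem_range.2 hlt)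
  rw [beq_iff_eq] at h
  show b2 (parTab.testBit (u &&& parkerRows.getD (12 * k.val + i.val) 0)) = _
  rw [h, b2_bsum12]
  refine sum_congr rfl fun j _ => ?_
  rw [Nat.testBit_and, b2_and, coef, vecN, mul_comm]

/-- The factor set on masks. -/
def facN (u v : ℕ) : Bool :=
  bsum 12 fun k => Nat.testBit v k && bsum 12 fun i => Nat.testBit u i && rowPar u k i

theorem b2_facN (u v : ℕ) : b2 (facN u v) = fac (vecN u) (vecN v) := by
  rw [facN, b2_bsum12, fac]
  refine sum_congr rfl fun k _ => ?_
  rw [b2_and, b2_bsum12, qf]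
  refine congrArg₂ (· * ·) ?_ (sum_congr rfl fun i _ => ?_)
  · simp only [vecN]
  · rw [b2_and, b2_rowPar]
    simp only [vecN]

/-- The action on masks, from the inverse permutation. -/
def actN (q u : ℕ) : ℕ :=
  mk12 fun i => bsum 12 fun a => Nat.testBit u a && Nat.testBit (basisMasks.getD a 0) (pget q i)

theorem vecN_actN {σ : Equiv.Perm GolayPt} {q : ℕ} (hq : Rep σ⁻¹ q) (u : ℕ) :
    vecN (actN q u) = act σ (vecN u) := by
  funext i
  have hi : (gidx (gpt (Fin.ofNat 24 i.val))).val = i.val := by
    rw [gidx_gpt, Fin.val_ofNat, Nat.mod_eq_of_lt (by omega)]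
  show b2 ((actN q u).testBit i.val) = cw (vecN u) (σ⁻¹ (gpt (Fin.ofNat 24 i.val)))
  rw [actN, testBit_mk12, decide_eq_true i.isLt, Bool.true_and, b2_bsum12, cw]
  refine sum_congr rfl fun a _ => ?_
  rw [b2_and, bword, word, hq, hi]
  congr 1
  cases (basisMasks.getD a.val 0).testBit (pget q i.val) <;> rfl

/-- The change of the factor set on masks. -/
def deltaN (q u v : ℕ) : Bool := Bool.xor (facN (actN q u) (actN q v)) (facN u v)

theorem b2_deltaN {σ : Equiv.Perm GolayPt} {q : ℕ} (hq : Rep σ⁻¹ q) (u v : ℕ) :
    b2 (deltaN q u v) = delta σ (vecN u) (vecN v) := by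
  rw [deltaN, b2_xor, b2_facN, b2_facN, vecN_actN hq, vecN_actN hq, delta]

theorem vecN_two_pow (a : Fin 12) : vecN (2 ^ a.val) = unit a := by
  funext i
  simp only [vecN, unit, Pi.single_apply, Nat.testBit_two_pow]
  by_cases h : i = a
  · subst h; simp [b2]
  · simp [h, b2, Fin.val_eq_val, Ne.symm h]

/-- The basis checks for invariance. -/
def goodN (q : ℕ) : Bool :=
  (List.range 12).all fun a =>
    (facN (actN q (2 ^ a)) (actN q (2 ^ a)) == facN (2 ^ a) (2 ^ a)) &&
    (List.range 12).all fun b => (deltaN q (2 ^ a) (2 ^ b) == deltaN q (2 ^ b) (2 ^ a))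

theorem good_of_goodN {σ : Equiv.Perm GolayPt} (hσ : σ ∈ M24) {q : ℕ} (hq : Rep σ⁻¹ q) (h : goodN q = true) :
    Good σ := by
  simp only [goodN, List.all_eq_true, List.mem_range, Bool.and_eq_true, beq_iff_eq] at h
  refine good_of_basis hσ (fun a b => ?_) fun a => ?_
  · have := congrArg b2 ((h a.val a.isLt).2 b.val b.isLt)
    rw [b2_deltaN hq, b2_deltaN hq, vecN_two_pow, vecN_two_pow] at this
    simp only [delta] at this
    simp only [comm]
    linear_combination (norm := ring_nf) this
    simp [CharTwo.two_eq_zero (R := ZMod 2)]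
  · have := congrArg b2 (h a.val a.isLt).1
    rwa [b2_facN, b2_facN, vecN_actN hq, vecN_two_pow] at this

/-- One step of the evaluation of a normalised lift. -/
def evalStep (q u : ℕ) (s : ℕ × Bool) (k : ℕ) : ℕ × Bool :=
  bif Nat.testBit u k then (Nat.lor s.1 (2 ^ k), Bool.xor s.2 (deltaN q s.1 (2 ^ k))) else s

/-- The value of a normalised lift. -/
def evalF (q u : ℕ) : Bool := ((List.range 12).foldl (evalStep q u) (0, false)).2

theorem evalF_sound {σ : Equiv.Perm GolayPt} {q : ℕ} (hq : Rep σ⁻¹ q) {f : V → ZMod 2} (hf : Cob σ f)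
    (hn : ∀ a, f (unit a) = 0) (u : ℕ) : b2 (evalF q u) = f (vecN u) := by
  have key : ∀ n ≤ 12, ∃ p b, (List.range n).foldl (evalStep q u) (0, false) = (p, b) ∧
      (∀ i, p.testBit i = (decide (i < n) && u.testBit i)) ∧ b2 b = f (vecN p) := by
    intro n
    induction n with
    | zero =>
      intro _
      refine ⟨0, false, rfl, fun i => by simp, ?_⟩
      rw [show vecN 0 = 0 from funext fun i => by simp [vecN, b2], hf.zero]; rfl
    | succ n ih =>
      intro hn'
      obtain ⟨p, b, he, hp, hb⟩ := ih (by omega)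
      rw [List.range_succ, List.foldl_append, he, List.foldl_cons, List.foldl_nil, evalStep]
      cases hu : u.testBit n
      · refine ⟨p, b, rfl, fun i => ?_, hb⟩
        rw [hp]
        by_cases h : i = n
        · subst h; simp [hu]
        · by_cases h2 : i < n
          · simp [h2, Nat.lt_succ_of_lt h2]
          · simp [h2, show ¬ i < n + 1 by omega]
      · refine ⟨p ||| 2 ^ n, Bool.xor b (deltaN q p (2 ^ n)), rfl, fun i => ?_, ?_⟩
        · rw [Nat.testBit_or, hp, Nat.testBit_two_pow]
          by_cases h : i = n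
          · subst h; simp [hu]
          · by_cases h2 : i < n
            · simp [h2, Nat.lt_succ_of_lt h2, Ne.symm h]
            · simp [h2, show ¬ i < n + 1 by omega, Ne.symm h]
        · have hadd : vecN (p ||| 2 ^ n) = vecN p + unit ⟨n, by omega⟩ := by
            funext i
            simp only [vecN, Pi.add_apply, Nat.testBit_or, unit, Pi.single_apply, Nat.testBit_two_pow]
            by_cases h : i.val = n
            · have : p.testBit i.val = false := by rw [hp, h]; simp
              rw [h] at this
              simp [this, h, Fin.ext_iff, b2]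
            · simp [h, Ne.symm h, Fin.ext_iff, b2]
          rw [b2_xor, hb, b2_deltaN hq, hadd, hf, hn, add_zero]
          rw [show vecN (2 ^ n) = unit ⟨n, by omega⟩ from vecN_two_pow ⟨n, by omega⟩]
  obtain ⟨p, b, he, hp, hb⟩ := key 12 le_rfl
  rw [evalF, he, hb]
  refine congrArg f (funext fun i => ?_)
  simp only [vecN, hp, decide_eq_true i.isLt, Bool.true_and]

/-- A word in lifts on a mask: the value and the image. -/
def evalWord (qs : List ℕ) (w : List ℕ) (u : ℕ) : Bool × ℕ :=
  w.foldr (fun i s => (Bool.xor s.1 (evalF (qs.getD i 0) s.2), actN (qs.getD i 0) s.2)) (false, u)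

/-- The preimage of a mask under a word. -/
def backWord (ps : List ℕ) (w : List ℕ) (u : ℕ) : ℕ := w.foldl (fun x i => actN (ps.getD i 0) x) u

/-- The coordinate mask of a basis word of the module. -/
def modCoord (c : ℕ) : ℕ := Nat.land (modWords.getD c 0) 4095

/-- The relation values of the normalised lifts, checked against a mask. -/
def zCheck (Z : ℕ) : Bool :=
  let qs := m23Syl.A.map Prod.snd
  let ps := m23Syl.A.map Prod.fst
  pairs.all fun pr => (List.range 11).all fun c =>
    let r := rhsWord m23Syl pr.1 pr.2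
    let u := backWord ps r (modCoord c)
    let a := evalWord qs r u
    let b := evalWord qs [pr.2, pr.1] u
    Nat.beq a.2 (modCoord c) && (Bool.xor a.1 b.1 == Nat.testBit Z (11 * pairIdx pr.1 pr.2 + c))

end Cfsg.Lib.Concrete.M23Ext.Parker
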