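import Cfsg.Agent.Lib.Concrete.M23Ext.ParkerCert

/-!
The extension of M23 by its cocode module from the automorphisms of the double cover of the code, and
its failure to split.
-/

set_option autoImplicit false
set_option linter.style.haveILetI false

namespace Cfsg.Lib.Concrete.M23Ext.Parker

open Finset

theorem M23_le_M24 : Spor.M23 ≤ M24 := fun _ hσ => hσ.1

/-- Good elements of M24. -/
def goodSub : Subgroup (Equiv.Perm GolayPt) where
  carrier := {σ | σ ∈ M24 ∧ Good σ}
  one_mem' := ⟨one_mem _, good_one⟩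
  mul_mem' := fun ha hb => ⟨mul_mem ha.1 hb.1, good_mul hb.1 ha.2 hb.2⟩
  inv_mem' := fun ha => ⟨inv_mem ha.1, good_inv ha.1 ha.2⟩

theorem good_M23 {σ : Equiv.Perm GolayPt} (hσ : σ ∈ Spor.M23) : Good σ := by
  obtain ⟨G⟩ := autGens_univ m23Aut rfl (by decide +kernel) rfl (by decide) (by decide +kernel)
  have e : m23Aut.grp = Spor.M23 := (grp_univ _ rfl).trans fixB_one_eq
  have hle : m23Aut.grp ≤ goodSub := by
    rw [← Subgroup.range_subtype m23Aut.grp, MonoidHom.range_eq_map, ← G.gen, MonoidHom.map_closure,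
      Subgroup.closure_le]
    rintro _ ⟨_, ⟨i, rfl⟩, rfl⟩
    have hM : (G.g i : Equiv.Perm GolayPt) ∈ M24 := M23_le_M24 (e ▸ (G.g i).2)
    exact ⟨hM, good_of_goodN hM (G.repi i) (List.all_eq_true.1 goodN_gens i.val (List.mem_range.2 i.isLt))⟩
  exact (hle (e ▸ hσ)).2

/-- Signed code words. -/
abbrev Pt := ZMod 2 × V

/-- Permutations of the points with a compatible change of signs. -/
def autP : Subgroup (Equiv.Perm GolayPt × Equiv.Perm Pt) where
  carrier := {x | x.1 ∈ Spor.M23 ∧ ∃ f, Cob x.1 f ∧ ∀ (a : ZMod 2) (u : V), x.2 (a, u) = (a + f u, act x.1 u)}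
  one_mem' := ⟨one_mem _, fun _ => 0, fun u v => by
      simp [delta, act_one, CharTwo.add_self_eq_zero], fun a u => by simp [act_one]⟩
  mul_mem' := by
    rintro ⟨σ, π⟩ ⟨τ, ρ⟩ ⟨hσ, f, hf, hπ⟩ ⟨hτ, g, hg, hρ⟩
    dsimp only at hσ hf hπ hτ hg hρ
    refine ⟨mul_mem hσ hτ, fun u => g u + f (act τ u), fun u v => ?_, fun a u => ?_⟩
    · show g (u + v) + f (act τ (u + v)) = g u + f (act τ u) + (g v + f (act τ v)) + delta (σ * τ) u v
      rw [act_add, hf, hg]
      simp only [delta, act_mul (M23_le_M24 hτ)]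
      linear_combination (fac (act τ u) (act τ v)) * CharTwo.two_eq_zero (R := ZMod 2)
    · show π (ρ (a, u)) = (a + (g u + f (act τ u)), act (σ * τ) u)
      rw [hρ, hπ, act_mul (M23_le_M24 hτ), add_assoc]
  inv_mem' := by
    rintro ⟨σ, π⟩ ⟨hσ, f, hf, hπ⟩
    dsimp only at hσ hf hπ
    have e : ∀ u, act σ (act σ⁻¹ u) = u := fun u => by
      rw [← act_mul (inv_mem (M23_le_M24 hσ)), mul_inv_cancel, act_one]
    refine ⟨inv_mem hσ, fun u => f (act σ⁻¹ u), fun u v => ?_, fun a u => ?_⟩
    · show f (act σ⁻¹ (u + v)) = f (act σ⁻¹ u) + f (act σ⁻¹ v) + delta σ⁻¹ u v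
      rw [act_add, hf]
      simp only [delta, e]
      ring
    · show π⁻¹ (a, u) = (a + f (act σ⁻¹ u), act σ⁻¹ u)
      rw [Equiv.Perm.inv_def, Equiv.symm_apply_eq, hπ, e, add_assoc, CharTwo.add_self_eq_zero, add_zero]

/-- The permutation of signed code words from a change of signs. -/
def liftPerm {σ : Equiv.Perm GolayPt} (hσ : σ ∈ M24) (f : V → ZMod 2) : Equiv.Perm Pt where
  toFun x := (x.1 + f x.2, act σ x.2)
  invFun x := (x.1 + f (act σ⁻¹ x.2), act σ⁻¹ x.2)
  left_inv x := by
    have e : act σ⁻¹ (act σ x.2) = x.2 := by rw [← act_mul hσ, inv_mul_cancel, act_one]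
    simp [e, add_assoc, CharTwo.add_self_eq_zero]
  right_inv x := by
    have e : act σ (act σ⁻¹ x.2) = x.2 := by rw [← act_mul (inv_mem hσ), mul_inv_cancel, act_one]
    simp [e, add_assoc, CharTwo.add_self_eq_zero]

theorem liftPerm_mem {σ : Equiv.Perm GolayPt} (hσ : σ ∈ Spor.M23) {f : V → ZMod 2} (hf : Cob σ f) :
    (σ, liftPerm (M23_le_M24 hσ) f) ∈ autP := ⟨hσ, f, hf, fun _ _ => rfl⟩

/-- The underlying permutation. -/
def sig (g : autP) : Equiv.Perm GolayPt := g.1.1

/-- The permutation of signed code words. -/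
def pts (g : autP) : Equiv.Perm Pt := g.1.2

/-- The pairing with a word. -/
def dot (w : GolayPt → ZMod 2) (u : V) : ZMod 2 := ∑ x, w x * cw u x

theorem dot_add_left (v w : GolayPt → ZMod 2) (u : V) : dot (v + w) u = dot v u + dot w u := by
  simp only [dot, Pi.add_apply, add_mul, sum_add_distrib]

theorem dot_add (w : GolayPt → ZMod 2) (u v : V) : dot w (u + v) = dot w u + dot w v := by
  simp only [dot, cw_add, Pi.add_apply, mul_add, sum_add_distrib]

theorem dot_zero (w : GolayPt → ZMod 2) : dot w 0 = 0 := by simp [dot, cw]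

theorem dot_zero_left (u : V) : dot 0 u = 0 := by simp [dot]

theorem dot_def (w : GolayPt → ZMod 2) (u : V) : dot w u = ∑ x, w x * cw u x := rfl

theorem cw_def (u : V) (x : GolayPt) : cw u x = ∑ i, u i * bword i x := rfl

attribute [local irreducible] dot act cw fac

/-- A translation. -/
def trPerm (w : GolayPt → ZMod 2) : Equiv.Perm Pt where
  toFun x := (x.1 + dot w x.2, x.2)
  invFun x := (x.1 + dot w x.2, x.2)
  left_inv x := by simp [add_assoc, CharTwo.add_self_eq_zero]
  right_inv x := by simp [add_assoc, CharTwo.add_self_eq_zero]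

theorem trPerm_mem (w : GolayPt → ZMod 2) : ((1 : Equiv.Perm GolayPt), trPerm w) ∈ autP := by
  refine ⟨one_mem _, dot w, fun u v => ?_, fun a u => ?_⟩
  · simp [delta, act_one, dot_add, CharTwo.add_self_eq_zero]
  · show trPerm w (a, u) = _
    rw [act_one]; rfl

/-- A translation in the group. -/
def tr (w : GolayPt → ZMod 2) : autP := ⟨(1, trPerm w), trPerm_mem w⟩

theorem tr_add (v w : GolayPt → ZMod 2) : tr (v + w) = tr v * tr w := by
  refine Subtype.ext (Prod.ext (one_mul _).symm (Equiv.ext fun x => ?_))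
  show (x.1 + dot (v + w) x.2, x.2) = (x.1 + dot w x.2 + dot v x.2, x.2)
  rw [dot_add_left]
  simp [add_comm, add_left_comm]

theorem tr_zero : tr 0 = 1 := by
  refine Subtype.ext (Prod.ext rfl (Equiv.ext fun x => ?_))
  show (x.1 + dot 0 x.2, x.2) = x
  rw [dot_zero_left, add_zero]

theorem mul_tr (g : autP) (w : GolayPt → ZMod 2) : g * tr w = tr (w ∘ ⇑((sig g)⁻¹)) * g := by
  obtain ⟨⟨σ, π⟩, hσ, f, hf, hπ⟩ := g
  refine Subtype.ext (Prod.ext ((mul_one _).trans (one_mul _).symm) (Equiv.ext fun x => ?_))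
  show π (x.1 + dot w x.2, x.2) = trPerm (w ∘ ⇑σ⁻¹) (π x)
  obtain ⟨a, u⟩ := x
  rw [hπ, hπ]
  show (a + dot w u + f u, act σ u) = (a + f u + dot (w ∘ ⇑σ⁻¹) (act σ u), act σ u)
  have e : dot (w ∘ ⇑σ⁻¹) (act σ u) = dot w u := by
    simp only [dot_def, cw_act (M23_le_M24 hσ), Function.comp_apply]
    exact Equiv.sum_comp (σ⁻¹ : Equiv.Perm GolayPt) (fun x => w x * cw u x)
  rw [e, add_right_comm]

theorem cw_unit (i : Fin 12) : cw (unit i) = bword i := by
  funext x
  simp [cw_def, unit, Pi.single_apply]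

theorem dot_cw (v u : V) : dot (cw v) u = 0 := by
  revert u
  refine induction (P := fun v => ∀ u, dot (cw v) u = 0) ?_ (fun a b ha hb u => ?_) (fun i => ?_) v
  · intro u
    rw [show cw 0 = 0 from funext fun x => by simp [cw_def], dot_zero_left]
  · rw [cw_add, dot_add_left, ha, hb, add_zero]
  · refine induction (dot_zero _) (fun a b ha hb => by rw [dot_add, ha, hb, add_zero]) fun j => ?_
    rw [dot_def, cw_unit, cw_unit]
    exact bword_orth i j

theorem dot_code {w : GolayPt → ZMod 2} (hw : w ∈ golayCode) (u : V) : dot w u = 0 := by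
  rw [← cw_kap hw]
  exact dot_cw _ _

theorem code_of_dot {w : GolayPt → ZMod 2} (h : ∀ u, dot w u = 0) : w ∈ golayCode := by
  set d := w + cw (kap w) with hd
  have hdot : ∀ u, dot d u = 0 := fun u => by rw [hd, dot_add_left, h, dot_code (cw_mem _), add_zero]
  have hlow : ∀ x, (gidx x).val < 12 → d x = 0 := fun x hx => by
    have e := congrFun (kap_cw (kap w)) ⟨(gidx x).val, hx⟩
    simp only [kap] at e
    have hx' : gpt (Fin.ofNat 24 (gidx x).val) = x := by
      rw [show Fin.ofNat 24 (gidx x).val = gidx x from Fin.ext (Nat.mod_eq_of_lt (gidx x).isLt), gpt_gidx]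
    rw [hx'] at e
    rw [hd, Pi.add_apply, ← e]
    exact CharTwo.add_self_eq_zero _
  have hz : d = 0 := by
    funext x
    by_cases hx : (gidx x).val < 12
    · exact hlow x hx
    · have h0 : ∑ i, bword i x * dot d (unit i) = 0 := by simp [hdot]
      have e : ∀ i, dot d (unit i) = ∑ y, d y * bword i y := fun i => by
        rw [dot_def]
        refine sum_congr rfl fun y _ => ?_
        simp [cw_def, unit, Pi.single_apply]
      simp only [e, mul_sum] at h0
      rw [sum_comm, sum_eq_single x] at h0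
      · rw [show ∑ i, bword i x * (d x * bword i x) = d x * ∑ i, bword i x * bword i x by
          rw [mul_sum]; exact sum_congr rfl fun i _ => by ring, bword_tail x x (by omega) (by omega), if_pos rfl,
          mul_one] at h0
        exact h0
      · intro y _ hy
        by_cases hy' : (gidx y).val < 12
        · simp [hlow y hy']
        · rw [show ∑ i, bword i x * (d y * bword i y) = d y * ∑ i, bword i x * bword i y by
            rw [mul_sum]; exact sum_congr rfl fun i _ => by ring, bword_tail x y (by omega) (by omega),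
            if_neg (Ne.symm hy), mul_zero]
      · exact fun h' => absurd (Finset.mem_univ x) h'
  have : w = cw (kap w) := funext fun x => CharTwo.add_eq_zero.1 (congrFun hz x)
  rw [this]
  exact cw_mem _

theorem tr_eq_one {w : GolayPt → ZMod 2} : tr w = 1 ↔ w ∈ golayCode := by
  constructor
  · intro h
    refine code_of_dot fun u => ?_
    have e : trPerm w (0, u) = (0, u) := by
      rw [show trPerm w = 1 from congrArg (fun g : autP => pts g) h]; rfl
    have e1 : (0 : ZMod 2) + dot w u = 0 := congrArg Prod.fst e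
    rwa [zero_add] at e1
  · intro h
    refine Subtype.ext (Prod.ext rfl (Equiv.ext fun x => ?_))
    show (x.1 + dot w x.2, x.2) = x
    rw [dot_code h, add_zero]

theorem exists_tr {g : autP} (hg : sig g = 1) : ∃ w, tr w = g := by
  obtain ⟨⟨σ, π⟩, hσ, f, hf, hπ⟩ := g
  change σ = 1 at hg
  subst hg
  have hf' : ∀ u v, f (u + v) = f u + f v := fun u v => by
    rw [hf u v, delta, act_one, act_one, CharTwo.add_self_eq_zero, add_zero]
  refine ⟨fun x => ∑ i : Fin 12, if x = gpt (Fin.ofNat 24 i.val) then f (unit i) else 0, ?_⟩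
  set w : GolayPt → ZMod 2 := fun x => ∑ i : Fin 12, if x = gpt (Fin.ofNat 24 i.val) then f (unit i) else 0
  have key : ∀ u, dot w u = f u := by
    refine induction ?_ (fun u v hu hv => by rw [dot_add, hu, hv, hf']) fun j => ?_
    · rw [dot_zero, hf.zero]
    · simp only [dot_def, w, sum_mul]
      rw [sum_comm]
      simp only [ite_mul, zero_mul, sum_ite_eq', mem_univ, if_true]
      have e : ∀ i : Fin 12, cw (unit j) (gpt (Fin.ofNat 24 i.val)) = unit j i := fun i => congrFun (kap_cw (unit j)) i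
      simp only [e]
      simp [unit, Pi.single_apply]
  refine Subtype.ext (Prod.ext rfl (Equiv.ext fun x => ?_))
  show (x.1 + dot w x.2, x.2) = π x
  obtain ⟨a, u⟩ := x
  rw [key, hπ, act_one]

/-- The translations by the point outside. -/
def noneSub : Subgroup autP where
  carrier := {g | ∃ c : ZMod 2, g = tr (Pi.single none c)}
  one_mem' := ⟨0, by rw [Pi.single_zero, tr_zero]⟩
  mul_mem' := by
    rintro _ _ ⟨c, rfl⟩ ⟨d, rfl⟩
    exact ⟨c + d, by rw [Pi.single_add, tr_add]⟩
  inv_mem' := by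
    rintro _ ⟨c, rfl⟩
    refine ⟨c, inv_eq_of_mul_eq_one_right ?_⟩
    rw [← tr_add, ← Pi.single_add, CharTwo.add_self_eq_zero, Pi.single_zero, tr_zero]

instance noneSub_normal : noneSub.Normal := by
  constructor
  rintro _ ⟨c, rfl⟩ g
  refine ⟨c, ?_⟩
  have hfix : sig g none = none := g.2.1.2
  have e : Pi.single (none : GolayPt) c ∘ ⇑((sig g)⁻¹) = Pi.single none c := by
    funext x
    simp only [Function.comp_apply, Pi.single_apply, Equiv.Perm.inv_def, Equiv.symm_apply_eq, hfix]
  rw [mul_tr, e, mul_inv_cancel_right]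

/-- The extension. -/
abbrev CocodeExt : Type := ↥autP ⧸ noneSub

/-- Its map onto M23. -/
def toM23 : CocodeExt →* Spor.M23 :=
  QuotientGroup.lift noneSub
    { toFun := fun g => ⟨sig g, g.2.1⟩
      map_one' := rfl
      map_mul' := fun _ _ => rfl }
    (by rintro _ ⟨c, rfl⟩; rfl)

theorem toM23_surjective : Function.Surjective toM23 := by
  intro σ
  obtain ⟨f, hf⟩ := exists_cob (M23_le_M24 σ.2) (good_M23 σ.2)
  exact ⟨QuotientGroup.mk ⟨_, liftPerm_mem σ.2 hf⟩, rfl⟩

/-- The module in the extension. -/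
def modHom : (GolayPt → ZMod 2) →+ Additive ↥toM23.ker where
  toFun w := Additive.ofMul ⟨QuotientGroup.mk (tr w), rfl⟩
  map_zero' := by
    refine congrArg Additive.ofMul (Subtype.ext ?_)
    show QuotientGroup.mk (tr 0) = 1
    rw [tr_zero]; rfl
  map_add' v w := by
    refine congrArg Additive.ofMul (Subtype.ext ?_)
    show QuotientGroup.mk (tr (v + w)) = QuotientGroup.mk (tr v) * QuotientGroup.mk (tr w)
    rw [tr_add, QuotientGroup.mk_mul]

theorem modHom_surjective : Function.Surjective modHom := by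
  intro n
  obtain ⟨⟨x, hx⟩, rfl⟩ := Additive.ofMul.surjective n
  obtain ⟨g, rfl⟩ := QuotientGroup.mk'_surjective noneSub x
  have hg : sig g = 1 := congrArg Subtype.val (show toM23 _ = 1 from hx)
  obtain ⟨w, rfl⟩ := exists_tr hg
  exact ⟨w, rfl⟩

theorem modHom_eq_zero (w : GolayPt → ZMod 2) :
    modHom w = 0 ↔ (w ∈ golayCode ∨ w + Pi.single none 1 ∈ golayCode) := by
  have h1 : modHom w = 0 ↔ tr w ∈ noneSub := by
    rw [← QuotientGroup.eq_one_iff]
    exact ⟨fun h => congrArg Subtype.val (congrArg Additive.toMul h),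
      fun h => congrArg Additive.ofMul (Subtype.ext h)⟩
  have h2 : ∀ v, tr w = tr v ↔ w + v ∈ golayCode := fun v => by
    have hv : tr v * tr v = 1 := by
      rw [← tr_add, show v + v = 0 from funext fun x => CharTwo.add_self_eq_zero _, tr_zero]
    rw [← tr_eq_one, tr_add]
    exact ⟨fun h => by rw [h, hv], fun h => by rw [← mul_one (tr w), ← hv, ← mul_assoc, h, one_mul]⟩
  rw [h1]
  constructor
  · rintro ⟨c, hc⟩
    rcases b2_eq c with rfl | rfl
    · left
      have := (h2 _).1 hc
      rwa [Pi.single_zero, add_zero] at this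
    · exact Or.inr ((h2 _).1 hc)
  · rintro (h | h)
    · exact ⟨0, (h2 _).2 (by rwa [Pi.single_zero, add_zero])⟩
    · exact ⟨1, (h2 _).2 h⟩

theorem modHom_conj (g : CocodeExt) (w : GolayPt → ZMod 2) :
    ((modHom (w ∘ ⇑(((QuotientGroup.quotientKerEquivOfSurjective toM23 toM23_surjective (QuotientGroup.mk g) :
      Spor.M23) : Equiv.Perm GolayPt)⁻¹))).toMul : CocodeExt) = g * ((modHom w).toMul : CocodeExt) * g⁻¹ := by
  obtain ⟨h, rfl⟩ := QuotientGroup.mk'_surjective noneSub g
  show QuotientGroup.mk (tr (w ∘ ⇑((sig h)⁻¹))) = QuotientGroup.mk h * QuotientGroup.mk (tr w) * (QuotientGroup.mk h)⁻¹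
  rw [← QuotientGroup.mk_mul, mul_tr, QuotientGroup.mk_mul, mul_inv_cancel_right]

theorem evalWord_sound {e : ℕ → autP} {qs : List ℕ} {f : ℕ → V → ZMod 2}
    (he : ∀ i < 7, ∀ (a : ZMod 2) (u : V), pts (e i) (a, u) = (a + f i u, act (sig (e i)) u))
    (hc : ∀ i < 7, Cob (sig (e i)) (f i)) (hn : ∀ i < 7, ∀ a, f i (unit a) = 0)
    (hq : ∀ i < 7, Rep (sig (e i))⁻¹ (qs.getD i 0)) :
    ∀ w : List ℕ, (∀ i ∈ w, i < 7) → ∀ u : ℕ,
      pts (wordProd e w) (0, vecN u) = (b2 (evalWord qs w u).1, vecN (evalWord qs w u).2) := by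
  intro w
  induction w with
  | nil => intro _ u; rfl
  | cons i w ih =>
    intro hw u
    have hi := hw i (List.mem_cons_self ..)
    have hp : wordProd e (i :: w) = e i * wordProd e w := by simp [wordProd]
    rw [hp]
    show pts (e i) (pts (wordProd e w) (0, vecN u)) = _
    rw [ih (fun k hk => hw k (List.mem_cons_of_mem _ hk)) u, he i hi]
    show _ = (b2 (Bool.xor (evalWord qs w u).1 (evalF (qs.getD i 0) (evalWord qs w u).2)),
      vecN (actN (qs.getD i 0) (evalWord qs w u).2))
    rw [b2_xor, evalF_sound (hq i hi) (hc i hi) (hn i hi), vecN_actN (hq i hi)]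

theorem cw_modCoord (c : Fin 11) : cw (vecN (modCoord c.val)) = mword c := by
  rw [show vecN (modCoord c.val) = kap (mword c) from funext fun i => (kap_mword c i).symm, cw_kap (mword_mem c)]

theorem no_complement (H : Subgroup CocodeExt) (hH : H ⊓ toM23.ker = ⊥) : H ⊔ toM23.ker ≠ ⊤ := by
  intro hH'
  haveI : Finite autP := Subtype.finite
  haveI : Finite CocodeExt := Quotient.finite _
  set φ := QuotientGroup.quotientKerEquivOfSurjective toM23 toM23_surjective
  obtain ⟨X, hX, hι⟩ := exists_cocodeExt toM23.ker φ modHom modHom_surjective modHom_eq_zero modHom_conj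
  have hb : ∀ i, ∃ (e : autP) (f : V → ZMod 2), i < 7 →
      (∀ (a : ZMod 2) (u : V), pts e (a, u) = (a + f u, act (sig e) u)) ∧
      Cob (sig e) f ∧ (∀ a, f (unit a) = 0) ∧ Rep (sig e)⁻¹ ((m23Syl.A.map Prod.snd).getD i 0) ∧
      Rep (sig e) (m23Syl.imgs.getD i 0) := by
    intro i
    by_cases hi : i < 7
    · obtain ⟨e1, e2⟩ := sylCheck_imgs m23Syl_check hi
      obtain ⟨σ, hσ, hr, hri⟩ := elem_mem_M23 e2
      obtain ⟨f₀, hf₀⟩ := exists_cob (M23_le_M24 hσ) (good_M23 hσ)
      obtain ⟨f, hf, hn⟩ := exists_normal hf₀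
      have e3 : ∀ i < 7, (m23Syl.A.map Prod.snd).getD i 0 = (m23Syl.A.getD i (0, 0)).2 := by decide +kernel
      exact ⟨⟨_, liftPerm_mem hσ hf⟩, f, fun _ => ⟨fun _ _ => rfl, hf, hn, e3 i hi ▸ hri, e1 ▸ hr⟩⟩
    · exact ⟨1, fun _ => 0, fun h => absurd h hi⟩
  choose e f hef using hb
  have hrep : ∀ i < 7, Rep (X.π (QuotientGroup.mk (e i))) (m23Syl.imgs.getD i 0) := fun i hi => by
    rw [hX]
    exact (hef i hi).2.2.2.2
  obtain ⟨Z, hR⟩ := exists_rels (X := X) m23Syl_check (b := fun i => QuotientGroup.mk (e i)) hrep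
  have hsound := evalWord_sound (e := e) (fun i hi => (hef i hi).1) (fun i hi => (hef i hi).2.1)
    (fun i hi => (hef i hi).2.2.1) (fun i hi => (hef i hi).2.2.2.1)
  have hZ : ∀ n < 28, ∀ c : Fin 11, Z n c = b2 (zLit.testBit (11 * n + c.val)) := by
    intro n hn c
    have hn' : n ∈ pairs.map (fun q => pairIdx q.1 q.2) := pairIdx_spec ▸ List.mem_range.2 hn
    obtain ⟨⟨i, j⟩, hq, hij'⟩ := List.mem_map.1 hn'
    obtain ⟨hij, hj, -⟩ := mem_pairs_iff _ hq
    have hrhs : ∀ k ∈ rhsWord m23Syl i j, k < 7 := rhsWord_lt m23Syl_check (lt_of_le_of_lt hij hj)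
    have hrel := hR.eq i j hij hj
    rw [show pairIdx i j = n from hij', hι] at hrel
    have hmap : wordProd (fun k => (QuotientGroup.mk (e k) : CocodeExt)) (rhsWord m23Syl i j) =
        QuotientGroup.mk (wordProd e (rhsWord m23Syl i j)) :=
      (map_wordProd (QuotientGroup.mk' noneSub) e _).symm
    rw [hmap] at hrel
    have hrel' : (QuotientGroup.mk (e j * e i) : CocodeExt) =
        QuotientGroup.mk (tr (unitVec (Z n)) * wordProd e (rhsWord m23Syl i j)) := hrel
    rw [QuotientGroup.eq] at hrel'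
    obtain ⟨c0, hc0⟩ := hrel'
    have hlhs : e j * e i * tr (Pi.single none c0) = tr (unitVec (Z n)) * wordProd e (rhsWord m23Syl i j) := by
      rw [← hc0, mul_inv_cancel_left]
    have hji : wordProd e [j, i] = e j * e i := by simp [wordProd]
    have hz := List.all_eq_true.1 (List.all_eq_true.1 zLit_check _ hq) c.val (List.mem_range.2 c.isLt)
    rw [Bool.and_eq_true, Nat.beq_eq, beq_iff_eq, show pairIdx i j = n from hij'] at hz
    obtain ⟨hz1, hz2⟩ := hz
    set u := backWord (m23Syl.A.map Prod.fst) (rhsWord m23Syl i j) (modCoord c.val)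
    have h1 : pts (e j * e i) (trPerm (Pi.single none c0) (0, vecN u)) =
        trPerm (unitVec (Z n)) (pts (wordProd e (rhsWord m23Syl i j)) (0, vecN u)) :=
      congrArg (fun g : autP => pts g (0, vecN u)) hlhs
    rw [hsound _ hrhs u, hz1] at h1
    set s := dot (Pi.single none c0) (vecN u) with hs
    have h2 : trPerm (Pi.single none c0) (0, vecN u) = ((0 : ZMod 2) + s, vecN u) := rfl
    have h3 : ∀ (t : ZMod 2) (v : V), pts (e j * e i) (t, v) =
        (t + (pts (e j * e i) (0, v)).1, (pts (e j * e i) (0, v)).2) := by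
      intro t v
      obtain ⟨-, g, -, hg⟩ := (e j * e i).2
      change ∀ a u, pts (e j * e i) (a, u) = _ at hg
      rw [hg, hg, zero_add]
    rw [h2, h3, ← hji, hsound _ (fun k hk => by
      simp only [List.mem_cons, List.not_mem_nil, or_false] at hk
      rcases hk with rfl | rfl <;> omega) u] at h1
    have h4 : (0 : ZMod 2) + s + b2 (evalWord (m23Syl.A.map Prod.snd) [j, i] u).1 =
        b2 (evalWord (m23Syl.A.map Prod.snd) (rhsWord m23Syl i j) u).1 + dot (unitVec (Z n)) (vecN (modCoord c.val)) :=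
      congrArg Prod.fst h1
    have hd : dot (unitVec (Z n)) (vecN (modCoord c.val)) = Z n c := by
      rw [← congrFun (cocoord_unitVec (Z n)) c]
      simp only [dot_def, cocoord, cw_modCoord, mul_comm]
    have hs0 : s = 0 := by
      have hu : dot (Pi.single none c0) (vecN u) = c0 * cw (vecN u) none := by
        simp [dot_def, Pi.single_apply]
      have hnone : cw (vecN u) none = 0 := by
        obtain ⟨hM, g, hg, hg'⟩ := (wordProd e (rhsWord m23Syl i j)).2
        have := hsound _ hrhs u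
        change ∀ a u, pts (wordProd e (rhsWord m23Syl i j)) (a, u) = (a + g u, act (sig (wordProd e (rhsWord m23Syl i j))) u) at hg'
        rw [hg', hz1] at this
        have h5 : act (sig (wordProd e (rhsWord m23Syl i j))) (vecN u) = vecN (modCoord c.val) := congrArg Prod.snd this
        have h6 := congrFun (cw_act (M23_le_M24 hM) (vecN u)) none
        change cw (act (sig (wordProd e (rhsWord m23Syl i j))) (vecN u)) none = cw (vecN u) ((sig (wordProd e (rhsWord m23Syl i j)))⁻¹ none) at h6
        rw [h5, cw_modCoord, mword_none] at h6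
        have hfix : (sig (wordProd e (rhsWord m23Syl i j)))⁻¹ none = none := by
          rw [Equiv.Perm.inv_def, Equiv.symm_apply_eq]; exact hM.2.symm
        rw [hfix] at h6
        exact h6.symm
      rw [hs, hu, hnone, mul_zero]
    rw [hs0, zero_add, zero_add, hd] at h4
    have h7 := congrArg b2 hz2
    rw [b2_xor, h4] at h7
    rw [← h7]
    linear_combination (-(b2 (evalWord (m23Syl.A.map Prod.snd) (rhsWord m23Syl i j) u).1)) * CharTwo.two_eq_zero (R := ZMod 2)
  have hphi : phiVal cocodeCert Z = 1 := by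
    rw [← zLit_phi, phiVal, feval]
    refine sum_congr rfl fun k hk => ite_congr rfl (fun _ => ?_) (fun _ => rfl)
    have hk' := mem_range.1 hk
    rw [zOf, hZ (k / 11) (by omega)]
    congr 2
    show 11 * (k / 11) + k % 11 = k
    omega
  have h0 := phi_zero_of_complement (X := X) m23Syl_check cocode_rows cocode_phi hR (H := H)
    (by rw [hX, extPerm_ker]; exact hH) (by rw [hX, extPerm_ker]; exact hH')
  rw [hphi] at h0
  exact one_ne_zero h0

end Cfsg.Lib.Concrete.M23Ext.Parker
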