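import Cfsg.Agent.Lib.Concrete.M23Ext.Data

/-!
The matrices of the code and cocode modules, and the checked certificates.
-/

set_option autoImplicit false
set_option maxRecDepth 100000

namespace Cfsg.Lib.Concrete.M23Ext

/-- A row of a matrix given by bits. -/
def rowOf (f : ℕ → Bool) : ℕ :=
  (List.range 11).foldr (fun i acc => bif f i then Nat.lor (Nat.shiftLeft 1 i) acc else acc) 0

/-- Matrices on the code module, from the inverse permutation. -/
def codeRows (_p q : ℕ) : List ℕ :=
  (List.range 11).map fun j => rowOf fun i => Nat.testBit (modWords.getD i 0) (pget q (modIdx.getD j 0))

/-- Matrices on the cocode module. -/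
def cocodeRows (p _q : ℕ) : List ℕ :=
  (List.range 11).map fun j => rowOf fun i => Nat.testBit (modWords.getD j 0) (pget p (modIdx.getD i 0))

theorem m23Syl_check : sylCheck m23Syl = true := by decide +kernel
theorem m23Syl_nf : nfCheck m23Syl = true := by decide +kernel
theorem code_rows : rowsCheck codeRows m23Syl codeCert = true := by decide +kernel
theorem cocode_rows : rowsCheck cocodeRows m23Syl cocodeCert = true := by decide +kernel
theorem code_close : closeCheck m23Syl codeCert = true := by decide +kernel
theorem cocode_close : closeCheck m23Syl cocodeCert = true := by decide +kernel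
theorem code_eqs : eqsCheck m23Syl codeCert = true := by decide +kernel
theorem cocode_eqs : eqsCheck m23Syl cocodeCert = true := by decide +kernel
theorem code_split : splitCheck m23Syl codeCert = true := by decide +kernel
theorem cocode_split : splitCheck m23Syl cocodeCert = true := by decide +kernel
theorem cocode_phi : phiCheck m23Syl cocodeCert = true := by decide +kernel

end Cfsg.Lib.Concrete.M23Ext
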