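import Cfsg.Agent.Lib.Concrete.M23Ext.Collect

/-!
Soundness of the collection process in an extension of M23 by an elementary abelian group.
-/

set_option autoImplicit false

namespace Cfsg.Lib.Concrete.M23Ext

open Finset

/-- An extension of M23 by an elementary abelian group of order 2^11 in coordinates. -/
structure Ext (E : Type*) [Group E] (rows : ℕ → ℕ → List ℕ) where
  π : E →* Equiv.Perm GolayPt
  range_π : π.range = Spor.M23
  ι : (Fin 11 → ZMod 2) → E
  ι_add : ∀ u v, ι (u + v) = ι u * ι v
  ι_inj : Function.Injective ι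
  ι_range : ∀ x, π x = 1 ↔ ∃ u, ι u = x
  conj : ∀ (g : E) (p q : ℕ), Rep (π g) p → Rep (π g)⁻¹ q → ∀ u, g * ι u * g⁻¹ = ι (actFn (rows p q) u)

variable {E : Type*} [Group E] {rows : ℕ → ℕ → List ℕ} (X : Ext E rows)

theorem Ext.ι_zero : X.ι 0 = 1 := by
  have := X.ι_add 0 0
  rw [add_zero] at this
  exact mul_eq_left.1 this.symm

theorem Ext.π_ι (u : Fin 11 → ZMod 2) : X.π (X.ι u) = 1 := (X.ι_range _).2 ⟨u, rfl⟩

theorem Ext.exists_ι {x y : E} (h : X.π x = X.π y) : ∃ u, X.ι u * y = x := by
  obtain ⟨u, hu⟩ := (X.ι_range (x * y⁻¹)).1 (by rw [map_mul, map_inv, h, mul_inv_cancel])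
  exact ⟨u, by rw [hu, inv_mul_cancel_right]⟩

theorem Ext.ι_mul_cancel {u v : Fin 11 → ZMod 2} {y : E} (h : X.ι u * y = X.ι v * y) : u = v :=
  X.ι_inj (mul_right_cancel h)

theorem Ext.ι_sub_eq {u v : Fin 11 → ZMod 2} {x y : E} (hx : X.ι u * y = x) (hv : X.ι v = 1) :
    x = X.ι (u + v) * y := by
  rw [X.ι_add, hv, mul_one, hx]

/-- The value of a normal form. -/
def bprod (b : ℕ → E) (e : ℕ) : E := wordProd b (bitsL e)

/-- The value of a state. -/
def sval (b : ℕ → E) (K : ℕ) (z : ℕ → ZMod 2) (s : State) : E := X.ι (veval K z s.1) * bprod b s.2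

/-- The elements satisfy the relations with the given values. -/
structure Lifts (R rel : List (List ℕ)) (V : ℕ → Vec) (b : ℕ → E) (K : ℕ) (z : ℕ → ZMod 2) : Prop where
  act : ∀ i < 7, ∀ u, b i * X.ι u * (b i)⁻¹ = X.ι (actFn (R.getD i []) u)
  relLt : ∀ n, ∀ i ∈ rel.getD n [], i < 7
  lenV : ∀ n < 28, (V n).length = 11
  sq : ∀ i < 7, b i * b i = X.ι (veval K z (V (pairIdx i i))) * wordProd b (rel.getD (pairIdx i i) [])
  comm : ∀ i j, i < j → j < 7 →
    b j * b i = X.ι (veval K z (V (pairIdx i j))) * (b i * wordProd b (rel.getD (pairIdx i j) []))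

variable {X} {R rel : List (List ℕ)} {V : ℕ → Vec} {b : ℕ → E} {K : ℕ} {z : ℕ → ZMod 2}

theorem length_foldr_actV (w : List ℕ) {v : Vec} (hv : v.length = 11) :
    (w.foldr (fun i u => actV (R.getD i []) u) v).length = 11 := by
  cases w with
  | nil => exact hv
  | cons i w => exact length_actV _ _

theorem foldr_actV (L : Lifts X R rel V b K z) : ∀ (w : List ℕ), (∀ i ∈ w, i < 7) → ∀ {v : Vec}, v.length = 11 →
    wordProd b w * X.ι (veval K z v) * (wordProd b w)⁻¹ =
      X.ι (veval K z (w.foldr (fun i u => actV (R.getD i []) u) v)) := by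
  intro w
  induction w with
  | nil => intro _ v _; simp [wordProd]
  | cons i w ih =>
    intro hw v hv
    have h1 := ih (fun j hj => hw j (List.mem_cons_of_mem _ hj)) hv
    rw [List.foldr_cons, veval_actV K z _ (length_foldr_actV w hv), ← L.act i (hw i (List.mem_cons_self ..)), ← h1]
    simp only [wordProd, List.map_cons, List.prod_cons, mul_inv_rev, mul_assoc]

theorem bprod_mul_ι (L : Lifts X R rel V b K z) (e : ℕ) {v : Vec} (hv : v.length = 11) :
    bprod b e * X.ι (veval K z v) = X.ι (veval K z (actNF R e v)) * bprod b e := by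
  have := foldr_actV L (bitsL e) (fun i hi => bitsL_lt hi) hv
  rw [mul_inv_eq_iff_eq_mul] at this
  exact this

theorem run_sound (L : Lifts X R rel V b K z) : ∀ (n : ℕ) (s : State) (w : List ℕ) (r : State),
    s.1.length = 11 → s.2 < 128 → (∀ i ∈ w, i < 7) → run R rel V n s w = some r →
      r.1.length = 11 ∧ r.2 < 128 ∧ sval X b K z s * wordProd b w = sval X b K z r := by
  intro n
  induction n with
  | zero =>
    rintro ⟨v, e⟩ w r hl he hw hr
    cases w with
    | nil => simp only [run, Option.some.injEq] at hr; subst hr; exact ⟨hl, he, by simp [wordProd]⟩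
    | cons i w => simp [run] at hr
  | succ n ih =>
    rintro ⟨v, e⟩ w r hl he hw hr
    cases w with
    | nil => simp only [run, Option.some.injEq] at hr; subst hr; exact ⟨hl, he, by simp [wordProd]⟩
    | cons i w =>
      have hi : i < 7 := hw i (List.mem_cons_self ..)
      have hw' : ∀ j ∈ w, j < 7 := fun j hj => hw j (List.mem_cons_of_mem _ hj)
      have hcons : wordProd b (i :: w) = b i * wordProd b w := by simp [wordProd]
      have hs := step_spec e he i hi
      simp only at hl he ⊢
      rw [run] at hr
      by_cases h0 : e >>> i = 0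
      · rw [if_pos h0] at hs
        rw [show Nat.beq (e >>> i) 0 = true by rw [Nat.beq_eq, h0], cond_true] at hr
        obtain ⟨r1, r2, r3⟩ := ih _ w r hl hs.1 hw' hr
        refine ⟨r1, r2, ?_⟩
        rw [← r3, hcons]
        simp only [sval, bprod, hs.2, wordProd_append, mul_assoc]
        congr 2
        simp [wordProd]
      · rw [if_neg h0] at hs
        obtain ⟨hj, hij, hp, hbits, hidx⟩ := hs
        rw [show Nat.beq (e >>> i) 0 = false from nbeq_false h0, cond_false] at hr
        dsimp only at hr
        set j := top e with hjdef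
        set p := e ^^^ 2 ^ j with hpdef
        set v' := vadd v (actNF R p (V (pairIdx i j))) with hv'
        have he' : bprod b e = bprod b p * b j := by
          rw [bprod, hbits, wordProd_append, bprod]; simp [wordProd]
        have key : ∀ w', b j * b i = X.ι (veval K z (V (pairIdx i j))) * w' →
            sval X b K z (v, e) * b i = sval X b K z (v', p) * w' := by
          intro w' hw''
          calc sval X b K z (v, e) * b i = X.ι (veval K z v) * (bprod b p * (b j * b i)) := by
                simp only [sval, he', mul_assoc]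
            _ = X.ι (veval K z v) * (bprod b p * X.ι (veval K z (V (pairIdx i j))) * w') := by
                rw [hw'', mul_assoc]
            _ = _ := by
                rw [bprod_mul_ι L p (L.lenV _ hidx)]
                simp only [sval, hv', veval_vadd, X.ι_add, mul_assoc]
        by_cases hEq : i = j
        · rw [show Nat.beq i j = true by rw [Nat.beq_eq, hEq], cond_true] at hr
          obtain ⟨r1, r2, r3⟩ := ih (v', p) _ r (length_vadd _ _) hp (fun k hk => by
            rcases List.mem_append.1 hk with hk | hk
            exacts [L.relLt _ k hk, hw' k hk]) hr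
          refine ⟨r1, r2, ?_⟩
          rw [← r3, hcons, ← mul_assoc, key (wordProd b (rel.getD (pairIdx i j) [])), wordProd_append, mul_assoc]
          rw [← hEq]
          exact L.sq i hi
        · rw [show Nat.beq i j = false from nbeq_false hEq, cond_false] at hr
          obtain ⟨r1, r2, r3⟩ := ih (v', p) _ r (length_vadd _ _) hp (fun k hk => by
            rcases List.mem_cons.1 hk with rfl | hk
            · exact hi
            rcases List.mem_append.1 hk with hk | hk
            exacts [L.relLt _ k hk, hw' k hk]) hr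
          refine ⟨r1, r2, ?_⟩
          rw [← r3, hcons, ← mul_assoc, key (b i * wordProd b (rel.getD (pairIdx i j) []))
            (L.comm i j (lt_of_le_of_ne hij hEq) hj)]
          simp only [wordProd, List.map_cons, List.prod_cons, List.map_append, List.prod_append, mul_assoc]

theorem smul_sound (L : Lifts X R rel V b K z) {a c r : State} (hc : c.1.length = 11)
    (ha2 : a.2 < 128) (h : smul R rel V a c = some r) :
    r.1.length = 11 ∧ r.2 < 128 ∧ sval X b K z a * sval X b K z c = sval X b K z r := by
  obtain ⟨r1, r2, r3⟩ := run_sound L fuel (vadd a.1 (actNF R a.2 c.1), a.2) (bitsL c.2) r (length_vadd _ _) ha2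
    (fun i hi => bitsL_lt hi) h
  refine ⟨r1, r2, ?_⟩
  rw [← r3]
  calc sval X b K z a * sval X b K z c
      = X.ι (veval K z a.1) * (bprod b a.2 * X.ι (veval K z c.1)) * bprod b c.2 := by
        simp only [sval, mul_assoc]
    _ = _ := by
        rw [bprod_mul_ι L _ hc]
        simp only [sval, bprod, veval_vadd, X.ι_add, mul_assoc]

theorem sword_sound (L : Lifts X R rel V b K z) {H : List State} {h : ℕ → E}
    (hH : ∀ l < H.length, (H.getD l (vzero, 0)).2 < 128 ∧ sval X b K z (H.getD l (vzero, 0)) = h l) :
    ∀ (w : List ℕ) (r : State), (∀ l ∈ w, l < H.length) → sword R rel V H w = some r →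
      r.1.length = 11 ∧ r.2 < 128 ∧ wordProd h w = sval X b K z r := by
  intro w
  induction w with
  | nil =>
    intro r _ hr
    simp only [sword, Option.some.injEq] at hr
    subst hr
    exact ⟨length_vzero, by norm_num, by simp [sval, veval_vzero, bprod, bitsL_zero, wordProd, X.ι_zero]⟩
  | cons l w ih =>
    intro r hl hr
    rw [sword, Option.bind_eq_some_iff] at hr
    obtain ⟨c, hc, hr⟩ := hr
    obtain ⟨c1, c2, c3⟩ := ih c (fun m hm => hl m (List.mem_cons_of_mem _ hm)) hc
    obtain ⟨hl2, hl3⟩ := hH l (hl l (List.mem_cons_self ..))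
    obtain ⟨r1, r2, r3⟩ := smul_sound L c1 hl2 hr
    refine ⟨r1, r2, ?_⟩
    rw [← r3, hl3, ← c3]
    simp [wordProd]

/-- Equal products have equal module parts, and different ones are related by the difference. -/
theorem sdiff_sound {a c : Option State} {d : Vec} (h : sdiff a c = some d) :
    ∃ a' c', a = some a' ∧ c = some c' ∧ sval X b K z a' = X.ι (veval K z d) * sval X b K z c' := by
  obtain ⟨a', rfl⟩ : ∃ a', a = some a' := by
    cases a with
    | none => simp [sdiff] at h
    | some a' => exact ⟨a', rfl⟩
  obtain ⟨c', rfl⟩ : ∃ c', c = some c' := by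
    cases c with
    | none => simp [sdiff] at h
    | some c' => exact ⟨c', rfl⟩
  refine ⟨a', c', rfl, rfl, ?_⟩
  simp only [sdiff] at h
  cases hb : Nat.beq a'.2 c'.2
  · simp [hb] at h
  · rw [hb, cond_true, Option.some.injEq] at h
    rw [Nat.beq_eq] at hb
    subst h
    simp only [sval, veval_vadd, hb, ← mul_assoc, ← X.ι_add]
    congr 2
    funext k
    simp only [Pi.add_apply, add_assoc, CharTwo.add_self_eq_zero, add_zero]

theorem veval_eq_zero {a' c' : State} {d : Vec}
    (h : sval X b K z a' = X.ι (veval K z d) * sval X b K z c') (he : sval X b K z a' = sval X b K z c') :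
    veval K z d = 0 := by
  rw [he, right_eq_mul] at h
  exact X.ι_inj (h.trans X.ι_zero.symm)

end Cfsg.Lib.Concrete.M23Ext
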